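import Cfsg.Agent.SingerTwo.Models

/-!
# 2-groups with a commuting involution and Singer automorphism
-/

set_option autoImplicit false

universe u

namespace CfsgLib.SingerTwo

open CfsgLib.FusionHeisenberg

/-- The standing hypotheses from the concrete ones. -/
theorem exists_singer {Q : Type u} [Group Q] [Finite Q] (hQ : IsPGroup 2 Q) (n : ℕ) (hn : 2 ≤ n)
    (α ρ : MulAut Q) (hα : α ^ 2 = 1) (hρ : ρ ^ (2 ^ n - 1) = 1) (hc : Commute α ρ)
    (C : Subgroup Q) (hC : ∀ x : Q, x ∈ C ↔ α x = x) (hcomm : ∀ x ∈ C, ∀ y ∈ C, x * y = y * x)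
    (hsq : ∀ x ∈ C, x * x = 1) (hcard : Nat.card C = 2 ^ n)
    (htr : ∀ x y : Q, x ∈ C → y ∈ C → x ≠ 1 → y ≠ 1 → ∃ k : ℕ, (ρ ^ k) x = y) :
    ∃ (F : Type) (_ : Field F) (_ : Fintype F) (μ : F) (ι : Q → F),
      Fintype.card F = 2 ^ n ∧ Gen μ ∧ Singer μ α ρ ι := by
  classical
  haveI : Fact (Nat.Prime 2) := ⟨Nat.prime_two⟩
  have hαρ : ∀ x, α (ρ x) = ρ (α x) := fun x => DFunLike.congr_fun hc.eq x
  have hρC : ∀ x ∈ C, ρ x ∈ C := fun x hx => by
    rw [hC] at hx ⊢; rw [hαρ, hx]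
  letI : CommGroup C := { (inferInstance : Group C) with
    mul_comm := fun a b => Subtype.ext (hcomm a a.2 b b.2) }
  let f : C →* C := MonoidHom.mk' (fun x => ⟨ρ x, hρC x x.2⟩)
    (fun a b => Subtype.ext (map_mul ρ (a : Q) b))
  let T : AddMonoid.End (Additive C) := MonoidHom.toAdditive f
  have hTk : ∀ (k : ℕ) (x : C),
      (((T ^ k) (Additive.ofMul x)).toMul : Q) = (ρ ^ k) (x : Q) := by
    intro k
    induction k with
    | zero => intro x; simp
    | succ k ih =>
      intro x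
      rw [pow_succ', pow_succ', MulAut.mul_apply, ← ih]
      rfl
  have h1 : 2 ≤ Nat.card C := by
    rw [hcard]; exact le_self_pow₀ (by norm_num) (by omega)
  haveI : Nontrivial C := Finite.one_lt_card_iff_nontrivial.1 (by omega)
  obtain ⟨c₀, hc₀⟩ := exists_ne (1 : C)
  have hc₀' : (c₀ : Q) ≠ 1 := fun e => hc₀ (Subtype.ext e)
  have horb : ∀ v : Additive C, v ≠ 0 → ∃ k : ℕ, (T ^ k) (Additive.ofMul c₀) = v := by
    intro v hv
    obtain ⟨k, hk⟩ := htr c₀ v.toMul c₀.2 (SetLike.coe_mem _) hc₀'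
      (fun e => hv (congrArg Additive.ofMul (Subtype.ext e : v.toMul = 1)))
    exact ⟨k, Additive.toMul.injective (Subtype.ext ((hTk k c₀).trans hk))⟩
  let K : Subring (AddMonoid.End (Additive C)) := Subring.closure {T}
  letI : CommRing K := Subring.closureCommRingOfComm (by
    rintro x hx y hy
    rw [Set.mem_singleton_iff] at hx hy
    rw [hx, hy])
  have hTK : T ∈ K := Subring.subset_closure rfl
  let ev : K →+ Additive C :=
    AddMonoidHom.mk' (fun k => (k : AddMonoid.End (Additive C)) (Additive.ofMul c₀)) fun a b => rfl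
  have hevinj : Function.Injective ev := by
    refine (injective_iff_map_eq_zero ev).2 fun k hk => Subtype.ext (DFunLike.ext _ _ fun v => ?_)
    by_cases hv : v = 0
    · rw [hv, map_zero, map_zero]
    obtain ⟨i, rfl⟩ := horb v hv
    have e : (k : AddMonoid.End (Additive C)) * T ^ i = T ^ i * k :=
      congrArg Subtype.val (mul_comm k (⟨T, hTK⟩ ^ i))
    have := DFunLike.congr_fun e (Additive.ofMul c₀)
    refine this.trans ?_
    show (T ^ i) ((k : AddMonoid.End (Additive C)) (Additive.ofMul c₀)) = 0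
    rw [show (k : AddMonoid.End (Additive C)) (Additive.ofMul c₀) = 0 from hk, map_zero]
  have hevsurj : Function.Surjective ev := by
    intro v
    by_cases hv : v = 0
    · exact ⟨0, hv.symm⟩
    obtain ⟨i, rfl⟩ := horb v hv
    exact ⟨⟨T, hTK⟩ ^ i, rfl⟩
  haveI : Finite K := Finite.of_injective ev hevinj
  haveI : Nontrivial K := hevsurj.nontrivial
  have hgenK : ∀ a : K, a ≠ 0 → ∃ i : ℕ, (⟨T, hTK⟩ : K) ^ i = a := by
    intro a ha
    obtain ⟨i, hi⟩ := horb (ev a) fun e => ha (hevinj (e.trans (map_zero ev).symm))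
    exact ⟨i, hevinj hi⟩
  have hTN : (⟨T, hTK⟩ : K) ^ (2 ^ n - 1) = 1 := by
    refine hevinj (Additive.toMul.injective (Subtype.ext ?_))
    refine (hTk (2 ^ n - 1) c₀).trans ?_
    rw [hρ]; rfl
  have hNpos : 0 < 2 ^ n - 1 := by
    have : 2 ^ 2 ≤ 2 ^ n := Nat.pow_le_pow_right (by norm_num) hn
    omega
  have hK : IsField K := by
    refine ⟨exists_pair_ne K, mul_comm, fun {a} ha => ?_⟩
    obtain ⟨i, rfl⟩ := hgenK a ha
    have hu : IsUnit ((⟨T, hTK⟩ : K) ^ i) := (IsUnit.of_pow_eq_one hTN hNpos.ne').pow i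
    obtain ⟨b, hb⟩ := hu.exists_right_inv
    exact ⟨b, hb⟩
  letI : Field K := hK.toField
  letI : Fintype K := Fintype.ofFinite K
  have hKc : Fintype.card K = 2 ^ n := by
    rw [← Nat.card_eq_fintype_card, Nat.card_eq_of_bijective ev ⟨hevinj, hevsurj⟩, ← hcard]
    exact Nat.card_congr Additive.toMul
  letI : Fintype (GaloisField 2 n) := Fintype.ofFinite _
  have hFc : Fintype.card (GaloisField 2 n) = 2 ^ n := by
    rw [← Nat.card_eq_fintype_card, GaloisField.card 2 n (by omega)]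
  let e : K ≃+* GaloisField 2 n := FiniteField.ringEquivOfCardEq (hKc.trans hFc.symm)
  have hevb : ∀ v, ∃ k, ev k = v := hevsurj
  choose ev' hev' using hevb
  let ι : Q → GaloisField 2 n := fun x =>
    if h : x ∈ C then e (ev' (Additive.ofMul ⟨x, h⟩)) else 0
  set μ : GaloisField 2 n := e ⟨T, hTK⟩ with hμ
  have hgen : ∀ r, r ≠ 0 → ∃ k : ℕ, μ ^ k = r := by
    intro r hr
    obtain ⟨i, hi⟩ := hgenK (e.symm r) fun h => hr (by
      rw [← e.apply_symm_apply r, h, map_zero])
    exact ⟨i, by rw [hμ, ← map_pow, hi, e.apply_symm_apply]⟩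
  have hμN : μ ^ (2 ^ n - 1) = 1 := by rw [hμ, ← map_pow, hTN, map_one]
  have hμ0 : μ ≠ 0 := fun h => by
    rw [h, zero_pow hNpos.ne'] at hμN; exact zero_ne_one hμN
  have hμ1 : μ ≠ 1 := fun h => by
    have hle : Fintype.card (GaloisField 2 n) ≤ 2 := by
      refine le_trans (Finset.card_le_card (s := Finset.univ) (t := {0, 1}) fun r _ => ?_) Finset.card_le_two
      by_cases hr : r = 0
      · simp [hr]
      · obtain ⟨k, rfl⟩ := hgen r hr
        simp [h]
    rw [hFc] at hle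
    have : 2 ^ 2 ≤ 2 ^ n := Nat.pow_le_pow_right (by norm_num) hn
    omega
  have hιe : ∀ (c : C) (k : K), ev k = Additive.ofMul c → ι (c : Q) = e k := by
    intro c k hk
    simp only [ι, dif_pos c.2, Subtype.coe_eta]
    congr 1
    exact hevinj ((hev' _).trans hk.symm)
  have hιmem : ∀ x, α x = x → x ∈ C := fun x hx => (hC x).2 hx
  refine ⟨GaloisField 2 n, inferInstance, inferInstance, μ, ι, hFc, ⟨?_, hgen, hμ0, hμ1⟩,
    ⟨hQ, fun x => ?_, hαρ, ?_, ?_, ?_, ?_, ?_⟩⟩
  · exact_mod_cast CharP.cast_eq_zero (GaloisField 2 n) 2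
  · have := DFunLike.congr_fun hα x
    rwa [pow_two, MulAut.mul_apply] at this
  · refine ⟨2 ^ (n - 1), ?_, ?_⟩
    · rw [← pow_succ', show n - 1 + 1 = n by omega,
        show 2 ^ n = 2 ^ n - 1 + 1 by omega, pow_add, hρ, one_mul, pow_one]
    · rw [← pow_succ', show n - 1 + 1 = n by omega,
        show 2 ^ n = 2 ^ n - 1 + 1 by omega, pow_add, hμN, one_mul, pow_one]
  · intro x y hx hy
    obtain ⟨a, ha⟩ := hevsurj (Additive.ofMul ⟨x, hιmem x hx⟩)
    obtain ⟨b, hb⟩ := hevsurj (Additive.ofMul ⟨y, hιmem y hy⟩)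
    have hab : ev (a + b) = Additive.ofMul (⟨x, hιmem x hx⟩ * ⟨y, hιmem y hy⟩ : C) := by
      rw [map_add, ha, hb]; rfl
    exact ((hιe _ _ hab).trans (map_add e a b)).trans (by rw [← hιe _ _ ha, ← hιe _ _ hb])
  · intro x hx h0
    obtain ⟨a, ha⟩ := hevsurj (Additive.ofMul ⟨x, hιmem x hx⟩)
    have hiota := hιe _ _ ha
    change ι x = e a at hiota
    rw [h0] at hiota
    have : a = 0 := e.injective (hiota.symm.trans (map_zero e).symm)
    rw [this, map_zero] at ha
    exact congrArg (fun v : Additive C => ((v.toMul : C) : Q)) ha.symm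
  · intro r
    refine ⟨((ev (e.symm r)).toMul : C), (hC _).1 (SetLike.coe_mem _), ?_⟩
    rw [hιe (ev (e.symm r)).toMul (e.symm r) rfl, e.apply_symm_apply]
  · intro x hx
    obtain ⟨a, ha⟩ := hevsurj (Additive.ofMul ⟨x, hιmem x hx⟩)
    have hTa : ev (⟨T, hTK⟩ * a) = Additive.ofMul (⟨ρ x, hρC x (hιmem x hx)⟩ : C) := by
      show T ((a : AddMonoid.End (Additive C)) (Additive.ofMul c₀)) = _
      rw [show (a : AddMonoid.End (Additive C)) (Additive.ofMul c₀) = _ from ha]
      rfl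
    exact ((hιe _ _ hTa).trans (map_mul e _ a)).trans (by rw [← hμ, ← hιe _ _ ha])

/-- **The classification.** -/
theorem classification {Q : Type u} [Group Q] [Finite Q] (hnc : ¬ ∀ x y : Q, x * y = y * x)
    {F : Type} [Field F] [Fintype F] {μ : F} {α ρ : MulAut Q} {ι : Q → F}
    (S : Singer μ α ρ ι) (hg : Gen μ) {n : ℕ} (hn : 1 ≤ n) (hF : Fintype.card F = 2 ^ n) :
    (∃ (K : Type) (_ : Field K) (_ : Fintype K), Fintype.card K = 4 ^ n ∧
        ∃ P : Sylow 2 (Cfsg.PSU 3 K (2 ^ n)), Nonempty (Q ≃* ↥(P : Subgroup (Cfsg.PSU 3 K (2 ^ n))))) ∨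
      (∃ (K : Type) (_ : Field K) (_ : Fintype K), Fintype.card K = 2 ^ n ∧
        ∃ P : Sylow 2 (Matrix.ProjectiveSpecialLinearGroup (Fin 3) K),
          Nonempty (Q ≃* ↥(P : Subgroup (Matrix.ProjectiveSpecialLinearGroup (Fin 3) K)))) := by
  classical
  obtain ⟨π, C⟩ := Singer.exists_coord_top hg S hnc
  obtain ⟨A, B, κ, hκ, hΦ⟩ := C.quadratic S hg hnc
  obtain ⟨j, hj⟩ := C.sqExt S hg (fun v => A * v.1 ^ 2 + κ * v.1 * v.2 + B * v.2 ^ 2) hΦ
  by_cases hiso : A = 0 ∨ ∃ t, A * t ^ 2 + κ * t + B = 0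
  · right
    obtain ⟨P, ⟨eP⟩⟩ := exists_sylow_heis F hn hF
    haveI : Finite (Heis F) := Finite.of_injective (fun x => (x.a, x.b, x.c)) fun x y h => by
      simp only [Prod.mk.injEq] at h
      exact Heis.ext h.1 h.2.1 h.2.2
    obtain ⟨g, hg'⟩ : ∃ g : F × F ≃+ F × F,
        ∀ v, (g v).1 * (g v).2 = A * v.1 ^ 2 + κ * v.1 * v.2 + B * v.2 ^ 2 := by
      rcases hiso with hA | ⟨t, ht⟩
      · refine ⟨{ toFun := fun v => (v.2, κ * v.1 + B * v.2)
                  invFun := fun w => ((w.2 - B * w.1) / κ, w.1)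
                  left_inv := fun v => Prod.ext (by field_simp; ring) rfl
                  right_inv := fun w => Prod.ext rfl (by field_simp; ring)
                  map_add' := fun v w => Prod.ext rfl (by simp only [Prod.fst_add, Prod.snd_add]; ring) },
          fun v => ?_⟩
        show v.2 * (κ * v.1 + B * v.2) = _
        rw [hA]; ring
      · refine ⟨{ toFun := fun v => (v.1 + t * v.2, A * v.1 + (A * t + κ) * v.2)
                  invFun := fun w => (w.1 + t * ((w.2 + A * w.1) / κ), (w.2 + A * w.1) / κ)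
                  left_inv := fun v => Prod.ext ?_ ?_
                  right_inv := fun w => Prod.ext ?_ ?_
                  map_add' := fun v w => Prod.ext ?_ ?_ }, fun v => ?_⟩
        · field_simp
          linear_combination (t * A * v.1 + t ^ 2 * A * v.2 + t * κ * v.2) * hg.two
        · field_simp
          linear_combination (A * v.1 + A * t * v.2) * hg.two
        · field_simp
          linear_combination (t * w.2 + t * A * w.1) * hg.two
        · field_simp
          linear_combination (A * κ * w.1 + A * t * w.2 + A ^ 2 * t * w.1) * hg.two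
        · simp only [Prod.fst_add, Prod.snd_add]; ring
        · simp only [Prod.fst_add, Prod.snd_add]; ring
        · show (v.1 + t * v.2) * (A * v.1 + (A * t + κ) * v.2) = _
          linear_combination v.2 ^ 2 * ht + (A * t * v.1 * v.2 - B * v.2 ^ 2) * hg.two
    obtain ⟨e⟩ := hj.nonempty_equiv (heis_sqExt hg.two _ g hg')
    exact ⟨F, inferInstance, inferInstance, hF, P, ⟨e.trans eP⟩⟩
  · left
    push Not at hiso
    obtain ⟨K, _, _, h, π', j', hj'⟩ := uThree_sqExt hn hF hg hiso.1 hκ hiso.2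
    haveI : Fact (Nat.Prime 2) := ⟨Nat.prime_two⟩
    obtain ⟨P⟩ : Nonempty (Sylow 2 (Cfsg.PSU 3 K (2 ^ n))) := inferInstance
    obtain ⟨eP⟩ := UThreeSylow.nonempty_equiv_sylow_PSU h P
    obtain ⟨e⟩ := hj.nonempty_equiv hj'
    refine ⟨K, inferInstance, inferInstance, ?_, P, ⟨e.trans eP⟩⟩
    rw [h.card_eq, ← pow_mul, mul_comm, pow_mul]; norm_num

end CfsgLib.SingerTwo
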