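import Mathlib

/-!
# Central extensions of elementary abelian groups are determined by their squaring map

Two central extensions of `V` by `C` with the same squaring map are isomorphic.
-/

set_option autoImplicit false

namespace CfsgLib.SingerTwo

/-- An extension of `V` by the central subgroup `range j`, with squaring map `Φ`. -/
structure SqExt {G : Type*} [Group G] {V : Type*} {C : Type*} [AddCommGroup V] [AddCommGroup C]
    (π : G → V) (j : C → G) (Φ : V → C) : Prop where
  π_mul : ∀ x y, π (x * y) = π x + π y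
  π_surj : Function.Surjective π
  j_add : ∀ a b, j (a + b) = j a * j b
  j_inj : Function.Injective j
  π_j : ∀ c, π (j c) = 0
  exact : ∀ x, π x = 0 → ∃ c, x = j c
  central : ∀ c x, j c * x = x * j c
  sq : ∀ x, x * x = j (Φ (π x))

variable {G H : Type*} [Group G] [Group H] {V C : Type*} [AddCommGroup V] [AddCommGroup C]
  {π : G → V} {j : C → G} {π' : H → V} {j' : C → H} {Φ : V → C}

theorem SqExt.j_zero (h : SqExt π j Φ) : j 0 = 1 := by
  have := h.j_add 0 0
  rw [add_zero] at this
  exact left_eq_mul.1 this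

theorem SqExt.π_one (h : SqExt π j Φ) : π 1 = 0 := by
  have := h.π_mul 1 1
  rw [one_mul] at this
  exact left_eq_add.1 this

theorem SqExt.π_inv (h : SqExt π j Φ) (x : G) : π x⁻¹ = -π x := by
  have := h.π_mul x⁻¹ x
  rw [inv_mul_cancel, h.π_one] at this
  exact eq_neg_of_add_eq_zero_left this.symm

theorem SqExt.nonempty_equiv [Finite G] [Finite H] (h : SqExt π j Φ) (h' : SqExt π' j' Φ) :
    Nonempty (G ≃* H) := by
  classical
  let R : Subgroup (G × H) :=
    { carrier := {p | π p.1 = π' p.2}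
      mul_mem' := fun {a b} ha hb => by
        simp only [Set.mem_setOf_eq] at ha hb ⊢
        rw [Prod.fst_mul, Prod.snd_mul, h.π_mul, h'.π_mul, ha, hb]
      one_mem' := by simp only [Set.mem_setOf_eq, Prod.fst_one, Prod.snd_one, h.π_one, h'.π_one]
      inv_mem' := fun {a} ha => by
        simp only [Set.mem_setOf_eq] at ha ⊢
        rw [Prod.fst_inv, Prod.snd_inv, h.π_inv, h'.π_inv, ha] }
  let N : Subgroup (G × H) :=
    { carrier := {p | ∃ c, p = (j c, j' c)}
      mul_mem' := by
        rintro _ _ ⟨a, rfl⟩ ⟨b, rfl⟩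
        exact ⟨a + b, by rw [h.j_add, h'.j_add]; rfl⟩
      one_mem' := ⟨0, by rw [h.j_zero, h'.j_zero]; rfl⟩
      inv_mem' := by
        rintro _ ⟨a, rfl⟩
        refine ⟨-a, inv_eq_of_mul_eq_one_right ?_⟩
        rw [Prod.mk_mul_mk, ← h.j_add, ← h'.j_add, add_neg_cancel, h.j_zero, h'.j_zero]
        rfl }
  have hNR : N ≤ R := by
    rintro _ ⟨c, rfl⟩; show π (j c) = π' (j' c); rw [h.π_j, h'.π_j]
  have hsq : ∀ p ∈ R, p * p ∈ N := fun p hp => ⟨Φ (π p.1), by
    have hp' : π p.1 = π' p.2 := hp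
    refine Prod.ext (h.sq p.1) ?_
    show p.2 * p.2 = j' (Φ (π p.1))
    rw [hp', h'.sq]⟩
  obtain ⟨M, ⟨hNM, hMR, hMt⟩, hmax⟩ := WellFounded.has_min
    (wellFounded_gt : WellFounded ((· > ·) : Subgroup (G × H) → Subgroup (G × H) → Prop))
    {M | N ≤ M ∧ M ≤ R ∧ ∀ b, ((1 : G), b) ∈ M → b = 1}
    ⟨N, le_rfl, hNR, fun b hb => by
      obtain ⟨c, hc⟩ := hb
      simp only [Prod.mk.injEq] at hc
      have : j c = j 0 := by rw [← hc.1, h.j_zero]
      rw [hc.2, h.j_inj this, h'.j_zero]⟩
  have hsurj : ∀ x : G, ∃ y, (x, y) ∈ M := by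
    intro x
    by_contra hx
    push Not at hx
    obtain ⟨y, hy⟩ := h'.π_surj (π x)
    set r : G × H := (x, y) with hr
    have hrR : r ∈ R := hy.symm
    have hconj : ∀ m ∈ M, r * m * r⁻¹ ∈ M := by
      intro m hm
      rw [show r * m * r⁻¹ = r * m * (r * m) * m⁻¹ * (r * r)⁻¹ by group]
      exact mul_mem (mul_mem (hNM (hsq _ (mul_mem hrR (hMR hm)))) (inv_mem hm))
        (inv_mem (hNM (hsq _ hrR)))
    have hr2 : r * r ∈ M := hNM (hsq _ hrR)
    let M' : Subgroup (G × H) :=
      { carrier := {g | g ∈ M ∨ g * r⁻¹ ∈ M}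
        one_mem' := Or.inl M.one_mem
        mul_mem' := by
          rintro a b (ha | ha) (hb | hb)
          · exact Or.inl (mul_mem ha hb)
          · exact Or.inr (by rw [mul_assoc]; exact mul_mem ha hb)
          · refine Or.inr ?_
            rw [show a * b * r⁻¹ = a * r⁻¹ * (r * b * r⁻¹) by group]
            exact mul_mem ha (hconj b hb)
          · refine Or.inl ?_
            rw [show a * b = a * r⁻¹ * (r * (b * r⁻¹) * r⁻¹) * (r * r) by group]
            exact mul_mem (mul_mem ha (hconj _ hb)) hr2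
        inv_mem' := by
          rintro a (ha | ha)
          · exact Or.inl (inv_mem ha)
          · refine Or.inr ?_
            rw [show a⁻¹ * r⁻¹ = (r * r)⁻¹ * (r * (a * r⁻¹)⁻¹ * r⁻¹) by group]
            exact mul_mem (inv_mem hr2) (hconj _ (inv_mem ha)) }
    have hMM' : M ≤ M' := fun m hm => Or.inl hm
    have hrM' : r ∈ M' := Or.inr (by rw [mul_inv_cancel]; exact M.one_mem)
    have hlt : M < M' := lt_of_le_of_ne hMM' fun e => hx y (e.symm ▸ hrM')
    refine hmax M' ⟨hNM.trans hMM', ?_, ?_⟩ hlt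
    · rintro g (hg | hg)
      · exact hMR hg
      · have := mul_mem (hMR hg) hrR
        rwa [inv_mul_cancel_right] at this
    · intro b hb
      rcases hb with hb | hb
      · exact hMt b hb
      · exfalso
        have := inv_mem hb
        rw [mul_inv_rev, inv_inv, hr] at this
        exact hx (y * b⁻¹) (by simpa using this)
  choose f hf using hsurj
  have huniq : ∀ x y, (x, y) ∈ M → y = f x := fun x y hy => by
    have := mul_mem (inv_mem (hf x)) hy
    rw [Prod.inv_mk, Prod.mk_mul_mk, inv_mul_cancel] at this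
    exact (inv_mul_eq_one.1 (hMt _ this)).symm
  let F : G →* H := MonoidHom.mk' f fun a b => (huniq _ _ (mul_mem (hf a) (hf b))).symm
  have hjc : ∀ c, f (j c) = j' c := fun c => (huniq _ _ (hNM ⟨c, rfl⟩)).symm
  refine ⟨MulEquiv.ofBijective F ⟨?_, ?_⟩⟩
  · refine (injective_iff_map_eq_one F).2 fun x hx => ?_
    have hx' : f x = 1 := hx
    have h1 : π x = 0 := by
      have := hMR (hf x)
      change π x = π' (f x) at this
      rw [this, hx', h'.π_one]
    obtain ⟨c, rfl⟩ := h.exact x h1
    rw [hjc] at hx'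
    rw [h'.j_inj (hx'.trans h'.j_zero.symm), h.j_zero]
  · intro b
    obtain ⟨x, hx⟩ := h.π_surj (π' b)
    have h1 : π' ((f x)⁻¹ * b) = 0 := by
      have := hMR (hf x)
      change π x = π' (f x) at this
      rw [h'.π_mul, h'.π_inv, ← this, hx, neg_add_cancel]
    obtain ⟨c, hc⟩ := h'.exact _ h1
    refine ⟨x * j c, ?_⟩
    show F (x * j c) = b
    rw [map_mul]
    show f x * f (j c) = b
    rw [hjc, ← hc, mul_inv_cancel_left]

end CfsgLib.SingerTwo
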