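import Mathlib

/-!
# Equivariant biadditive forms on a finite field of characteristic two

`F` is a finite field of characteristic two whose nonzero elements are the powers of `μ`. A biadditive
map `B : F → F → F` with `B (μ u) (μ v) = μ B u v` satisfies `(B u v)² = u v (B 1 1)²`.
-/

set_option autoImplicit false

namespace CfsgLib.SingerTwo

/-- The standing hypotheses on `(F, μ)`. -/
structure Gen {F : Type*} [Field F] (μ : F) : Prop where
  two : (2 : F) = 0
  gen : ∀ r : F, r ≠ 0 → ∃ k : ℕ, μ ^ k = r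
  ne_zero : μ ≠ 0
  ne_one : μ ≠ 1

variable {F : Type*} [Field F] {μ : F}

theorem Gen.add_self (h : Gen μ) (x : F) : x + x = 0 := by
  linear_combination x * h.two

theorem Gen.eq_of_add (h : Gen μ) {x y : F} (e : x + y = 0) : x = y := by
  linear_combination e - y * h.two

theorem Gen.sq_add (h : Gen μ) (x y : F) : (x + y) ^ 2 = x ^ 2 + y ^ 2 := by
  linear_combination (x * y) * h.two

theorem Gen.sq_inj (h : Gen μ) {x y : F} (e : x ^ 2 = y ^ 2) : x = y := by
  have : (x + y) ^ 2 = 0 := by linear_combination e + (y ^ 2 + x * y) * h.two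
  exact h.eq_of_add (eq_zero_of_pow_eq_zero this)

theorem Gen.exists_sqrt [Finite F] (h : Gen μ) (r : F) : ∃ s : F, s ^ 2 = r :=
  Finite.surjective_of_injective (f := fun x : F => x ^ 2) (fun _ _ e => h.sq_inj e) r

/-- Equivariant biadditive forms are square roots of multiples of the product. -/
theorem Gen.pairing [Finite F] (h : Gen μ) (B : F → F → F)
    (hl : ∀ u u' v, B (u + u') v = B u v + B u' v) (hr : ∀ u v v', B u (v + v') = B u v + B u v')
    (he : ∀ u v, B (μ * u) (μ * v) = μ * B u v) (u v : F) :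
    B u v ^ 2 = u * v * B 1 1 ^ 2 := by
  have hl0 : ∀ w, B 0 w = 0 := fun w => by
    have := hl 0 0 w
    rw [add_zero] at this
    linear_combination -this
  have hr0 : ∀ w, B w 0 = 0 := fun w => by
    have := hr w 0 0
    rw [add_zero] at this
    linear_combination -this
  have he' : ∀ r u v, B (r * u) (r * v) = r * B u v := by
    intro r u v
    by_cases hr' : r = 0
    · rw [hr', zero_mul, zero_mul, zero_mul, hl0]
    obtain ⟨k, rfl⟩ := h.gen r hr'
    induction k with
    | zero => simp
    | succ k ih =>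
      rw [pow_succ', mul_assoc, mul_assoc, he, ih (pow_ne_zero k h.ne_zero), mul_assoc]
  -- the two additive maps attached to `B`
  set c := B 1 1 ^ 2 with hc
  let f : F → F := fun r => B 1 r ^ 2 + r * c
  let g : F → F := fun r => B r 1 ^ 2 + r * c
  have fadd : ∀ x y, f (x + y) = f x + f y := fun x y => by
    simp only [f]; rw [hr, h.sq_add]; ring
  have gadd : ∀ x y, g (x + y) = g x + g y := fun x y => by
    simp only [g]; rw [hl, h.sq_add]; ring
  have gf : ∀ x, x ≠ 0 → g x = x ^ 2 * f x⁻¹ := fun x hx => by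
    have e := he' x 1 x⁻¹
    rw [mul_one, mul_inv_cancel₀ hx] at e
    simp only [f, g]
    rw [e]
    field_simp
  have g1 : g 1 = 0 := by simp only [g]; rw [one_mul]; exact h.add_self _
  have g0 : g 0 = 0 := by simp only [g]; rw [hl0]; ring
  have gsq : ∀ x, g (x ^ 2) = 0 := by
    intro x
    by_cases hx : x = 0
    · rw [hx, sq, mul_zero, g0]
    by_cases hx1 : x + 1 = 0
    · rw [h.eq_of_add hx1, one_pow, g1]
    have hne : x ^ 2 + x ≠ 0 := by
      rw [show x ^ 2 + x = x * (x + 1) by ring]
      exact mul_ne_zero hx hx1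
    have e1 : (x ^ 2 + x)⁻¹ = x⁻¹ + (x + 1)⁻¹ := by
      field_simp
      linear_combination (-x) * h.two
    have e2 := gf _ hne
    rw [e1, fadd, mul_add, show x ^ 2 + x = x * (x + 1) by ring, mul_pow,
      show x ^ 2 * (x + 1) ^ 2 * f x⁻¹ = (x + 1) ^ 2 * (x ^ 2 * f x⁻¹) by ring,
      mul_assoc (x ^ 2) ((x + 1) ^ 2), ← gf x hx, ← gf _ hx1, gadd x 1, g1, add_zero,
      show x * (x + 1) = x ^ 2 + x by ring, gadd] at e2
    linear_combination e2 + (x ^ 2 * g x + x * g x) * h.two
  have gall : ∀ x, g x = 0 := fun x => by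
    obtain ⟨s, rfl⟩ := h.exists_sqrt x; exact gsq s
  by_cases hu : u = 0
  · rw [hu, hl0]; ring
  by_cases hv : v = 0
  · rw [hv, hr0]; ring
  have hf : f (v / u) = 0 := by
    have e := gf (u / v) (div_ne_zero hu hv)
    rw [gall, inv_div] at e
    exact (mul_eq_zero.1 e.symm).resolve_left (pow_ne_zero _ (div_ne_zero hu hv))
  have e := he' u 1 (v / u)
  rw [mul_one, mul_div_cancel₀ _ hu] at e
  simp only [f] at hf
  rw [e, mul_pow, h.eq_of_add hf]
  field_simp

/-- An alternating equivariant biadditive form on `F` vanishes. -/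
theorem Gen.pairing_alt [Finite F] (h : Gen μ) (B : F → F → F)
    (hl : ∀ u u' v, B (u + u') v = B u v + B u' v) (hr : ∀ u v v', B u (v + v') = B u v + B u v')
    (he : ∀ u v, B (μ * u) (μ * v) = μ * B u v) (ha : B 1 1 = 0) (u v : F) : B u v = 0 :=
  eq_zero_of_pow_eq_zero (n := 2) (by rw [h.pairing B hl hr he, ha]; ring)

end CfsgLib.SingerTwo
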