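import Cfsg.Agent.SingerTwo.Field

/-!
# Two-groups with an involution whose fixed points form a Singer module

`Singer μ α ρ ι`: `α² = 1`, `ρ` commutes with `α`, and `ι` identifies the fixed points of `α` with
the field `F` so that `ρ` becomes multiplication by `μ`. If such a group `Q` is not commutative, there
is an equivariant map of `Q` onto `F × F` whose kernel is the fixed point group of `α`.
-/

set_option autoImplicit false

namespace CfsgLib.SingerTwo

section Cm

variable {G : Type*} [Group G]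

/-- The commutator. -/
def cm (x y : G) : G := x * y * x⁻¹ * y⁻¹

theorem cm_eq_one_iff {x y : G} : cm x y = 1 ↔ x * y = y * x := by
  unfold cm; rw [mul_inv_eq_one, mul_inv_eq_iff_eq_mul]

theorem cm_self (x : G) : cm x x = 1 := cm_eq_one_iff.2 rfl

theorem cm_swap (x y : G) : cm y x = (cm x y)⁻¹ := by unfold cm; group

theorem map_cm {H : Type*} [Group H] (f : G →* H) (x y : G) : f (cm x y) = cm (f x) (f y) := by
  simp [cm]

theorem map_cm' (f : MulAut G) (x y : G) : f (cm x y) = cm (f x) (f y) := by simp [cm]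

theorem mul_eq_cm_mul (x y : G) : x * y = cm x y * (y * x) := by unfold cm; group

theorem cm_mul_left {x y z : G} (h : x * cm y z = cm y z * x) :
    cm (x * y) z = cm y z * cm x z := by
  have e : cm (x * y) z = x * cm y z * x⁻¹ * cm x z := by unfold cm; group
  rw [e, h, mul_inv_cancel_right]

theorem cm_mul_right {x y z : G} (h : y * cm x z = cm x z * y) :
    cm x (y * z) = cm x y * cm x z := by
  have e : cm x (y * z) = cm x y * (y * cm x z * y⁻¹) := by unfold cm; group
  rw [e, h, mul_inv_cancel_right]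

end Cm

/-- An involutory automorphism of a 2-group fixes a nontrivial element of each nontrivial invariant
subgroup. -/
theorem exists_fixed_of_invol {G : Type*} [Group G] [Finite G] (hG : IsPGroup 2 G) (α : MulAut G)
    (hinv : ∀ x, α (α x) = x) (K : Subgroup G) (hK : K ≠ ⊥) (hα : ∀ x ∈ K, α x ∈ K) :
    ∃ x ∈ K, α x = x ∧ x ≠ 1 := by
  classical
  haveI : Fintype K := Fintype.ofFinite K
  haveI : Fact (Nat.Prime 2) := ⟨Nat.prime_two⟩
  have hdvd : 2 ∣ Fintype.card K := by
    rw [← Nat.card_eq_fintype_card]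
    obtain ⟨k, hk⟩ := IsPGroup.iff_card.1 (hG.to_subgroup K)
    have : 1 < Nat.card K := K.one_lt_card_iff_ne_bot.2 hK
    rcases k with _ | k
    · rw [hk] at this; simp at this
    · exact ⟨2 ^ k, by rw [hk, pow_succ']⟩
  let σ : Equiv.Perm K :=
    { toFun := fun x => ⟨α x, hα x x.2⟩
      invFun := fun x => ⟨α x, hα x x.2⟩
      left_inv := fun x => Subtype.ext (hinv x)
      right_inv := fun x => Subtype.ext (hinv x) }
  have hσ : σ ^ 2 ^ 1 = 1 := by
    ext x; show α (α (x : G)) = (x : G); exact hinv x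
  obtain ⟨b, hb, hb1⟩ := Equiv.Perm.exists_fixed_point_of_prime' hdvd hσ
    (show σ (1 : K) = 1 from Subtype.ext (map_one α))
  exact ⟨b, b.2, congrArg Subtype.val hb, fun h => hb1 (Subtype.ext h)⟩

/-- The standing hypotheses. -/
structure Singer {Q : Type*} [Group Q] {F : Type*} [Field F] (μ : F) (α ρ : MulAut Q) (ι : Q → F) :
    Prop where
  isPGroup : IsPGroup 2 Q
  inv : ∀ x, α (α x) = x
  comm : ∀ x, α (ρ x) = ρ (α x)
  half : ∃ m : ℕ, ρ ^ (2 * m) = ρ ∧ μ ^ (2 * m) = μ
  ι_mul : ∀ x y, α x = x → α y = y → ι (x * y) = ι x + ι y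
  ι_inj : ∀ x, α x = x → ι x = 0 → x = 1
  ι_surj : ∀ r, ∃ x, α x = x ∧ ι x = r
  ι_ρ : ∀ x, α x = x → ι (ρ x) = μ * ι x

namespace Singer

variable {Q : Type*} [Group Q] {F : Type*} [Field F] {μ : F} {α ρ : MulAut Q} {ι : Q → F}
variable (S : Singer μ α ρ ι) (hg : Gen μ)

theorem fixed_mul {x y : Q} (hx : α x = x) (hy : α y = y) : α (x * y) = x * y := by
  rw [map_mul, hx, hy]

theorem fixed_inv {x : Q} (hx : α x = x) : α x⁻¹ = x⁻¹ := by rw [map_inv, hx]

include S

theorem comm_pow (k : ℕ) (x : Q) : α ((ρ ^ k) x) = (ρ ^ k) (α x) := by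
  induction k generalizing x with
  | zero => simp
  | succ k ih => rw [pow_succ', MulAut.mul_apply, MulAut.mul_apply, S.comm, ih]

theorem fixed_ρ {x : Q} (hx : α x = x) : α (ρ x) = ρ x := by rw [S.comm, hx]

theorem fixed_pow {x : Q} (hx : α x = x) (k : ℕ) : α ((ρ ^ k) x) = (ρ ^ k) x := by
  rw [S.comm_pow, hx]

theorem ι_one : ι 1 = 0 := by
  have h := S.ι_mul 1 1 (map_one α) (map_one α)
  rw [one_mul] at h
  linear_combination -h

theorem ι_pow {x : Q} (hx : α x = x) (k : ℕ) : ι ((ρ ^ k) x) = μ ^ k * ι x := by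
  induction k with
  | zero => simp
  | succ k ih =>
    rw [pow_succ', MulAut.mul_apply, S.ι_ρ _ (S.fixed_pow hx k), ih, pow_succ', mul_assoc]

theorem ι_ext {x y : Q} (hx : α x = x) (hy : α y = y) (h : ι x = ι y) : x = y := by
  have h1 : ι (x * y⁻¹) = 0 := by
    have e := S.ι_mul (x * y⁻¹) y (fixed_mul hx (fixed_inv hy)) hy
    rw [inv_mul_cancel_right] at e
    linear_combination -e + h
  exact mul_inv_eq_one.1 (S.ι_inj _ (fixed_mul hx (fixed_inv hy)) h1)

include hg

theorem fixed_sq {x : Q} (hx : α x = x) : x * x = 1 :=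
  S.ι_inj _ (fixed_mul hx hx) (by rw [S.ι_mul _ _ hx hx, hg.add_self])

theorem fixed_inv_eq {x : Q} (hx : α x = x) : x⁻¹ = x :=
  inv_eq_of_mul_eq_one_right (S.fixed_sq hg hx)

theorem ι_inv {x : Q} (hx : α x = x) : ι x⁻¹ = ι x := by rw [S.fixed_inv_eq hg hx]

variable [Finite Q]

omit hg in
/-- A nontrivial invariant subgroup has a nontrivial fixed element. -/
theorem exists_fixed_ne_one (K : Subgroup Q) (hK : K ≠ ⊥) (hα : ∀ x ∈ K, α x ∈ K) :
    ∃ x ∈ K, α x = x ∧ x ≠ 1 :=
  exists_fixed_of_invol S.isPGroup α S.inv K hK hα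

omit hg in
/-- An invariant subgroup meeting the fixed points nontrivially contains all of them. -/
theorem fixed_mem (hg : Gen μ) (K : Subgroup Q) (hK : K ≠ ⊥) (hα : ∀ x ∈ K, α x ∈ K)
    (hρ : ∀ x ∈ K, ρ x ∈ K) {c : Q} (hc : α c = c) : c ∈ K := by
  obtain ⟨x, hxK, hx, hx1⟩ := S.exists_fixed_ne_one K hK hα
  by_cases hc0 : ι c = 0
  · rw [S.ι_inj _ hc hc0]; exact K.one_mem
  have hx0 : ι x ≠ 0 := fun h => hx1 (S.ι_inj _ hx h)
  obtain ⟨k, hk⟩ := hg.gen (ι c / ι x) (div_ne_zero hc0 hx0)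
  have hmem : ∀ k, (ρ ^ k) x ∈ K := by
    intro k
    induction k with
    | zero => simpa using hxK
    | succ k ih => rw [pow_succ', MulAut.mul_apply]; exact hρ _ ih
  convert hmem k using 1
  refine S.ι_ext hc (S.fixed_pow hx k) ?_
  rw [S.ι_pow hx, hk, div_mul_cancel₀ _ hx0]

theorem fixed_central {c : Q} (hc : α c = c) (x : Q) : x * c = c * x := by
  haveI : Nontrivial Q := by
    obtain ⟨y, hy, hy1⟩ := S.ι_surj 1
    exact ⟨⟨y, 1, fun h => by rw [h, S.ι_one] at hy1; exact zero_ne_one hy1⟩⟩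
  haveI : Fact (Nat.Prime 2) := ⟨Nat.prime_two⟩
  have hne : Subgroup.center Q ≠ ⊥ := (Subgroup.nontrivial_iff_ne_bot _).1 S.isPGroup.center_nontrivial
  have inv : ∀ (f : MulAut Q) (z : Q), z ∈ Subgroup.center Q → f z ∈ Subgroup.center Q := by
    intro f z hz
    rw [Subgroup.mem_center_iff] at hz ⊢
    intro g
    obtain ⟨g, rfl⟩ := f.surjective g
    rw [← map_mul, ← map_mul, hz g]
  exact Subgroup.mem_center_iff.1
    (S.fixed_mem hg _ hne (fun z => inv α z) (fun z => inv ρ z) hc) x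

/-- `C`, the fixed point group. -/
def fix (_S : Singer μ α ρ ι) : Subgroup Q where
  carrier := {x | α x = x}
  mul_mem' := fun {x y} hx hy => fixed_mul (α := α) hx hy
  one_mem' := map_one α
  inv_mem' := fun {x} hx => fixed_inv (α := α) hx

end Singer

end CfsgLib.SingerTwo
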