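import Cfsg.Agent.SingerTwo.Structure
import Cfsg.Agent.SingerTwo.Extension
import Cfsg.Agent.FusionHeisenberg.SLThree
import Cfsg.Agent.UThreeSylow.Structure

/-!
# Identification with Sylow 2-subgroups of `PSL₃(q)` and `PSU₃(q)`
-/

set_option autoImplicit false

universe u

namespace CfsgLib.SingerTwo

open CfsgLib.FusionHeisenberg

/-- The Heisenberg group over `F` is a Sylow 2-subgroup of `PSL₃(F)`, `F` of even order. -/
theorem exists_sylow_heis (F : Type) [Field F] [Fintype F] {n : ℕ} (hn : 1 ≤ n)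
    (hF : Fintype.card F = 2 ^ n) :
    ∃ S : Sylow 2 (Matrix.ProjectiveSpecialLinearGroup (Fin 3) F),
      Nonempty (Heis F ≃* ↥(S : Subgroup (Matrix.ProjectiveSpecialLinearGroup (Fin 3) F))) := by
  haveI : Fact (Nat.Prime 2) := ⟨Nat.prime_two⟩
  let Z := Subgroup.center (Matrix.SpecialLinearGroup (Fin 3) F)
  let π := (QuotientGroup.mk' Z).comp (heisHom (K := F))
  have hπ : Function.Injective π := by
    rw [← MonoidHom.ker_eq_bot_iff, eq_bot_iff]
    intro x hx
    have hxZ : heisHom x ∈ Z := (QuotientGroup.eq_one_iff _).1 hx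
    obtain ⟨r, -, hr⟩ := Matrix.SpecialLinearGroup.mem_center_iff.1 hxZ
    have h01 := congrFun (congrFun hr 0) 1
    have h12 := congrFun (congrFun hr 1) 2
    have h02 := congrFun (congrFun hr 0) 2
    simp [heisHom] at h01 h12 h02
    exact Subgroup.mem_bot.2 (Heis.ext h01.symm h12.symm h02.symm)
  let e₃ : Heis F ≃ F × F × F := ⟨fun x => (x.a, x.b, x.c), fun t => ⟨t.1, t.2.1, t.2.2⟩,
    fun _ => rfl, fun _ => rfl⟩
  have hcard : Nat.card π.range = 2 ^ (n * 3) := by
    rw [← Nat.card_congr (MonoidHom.ofInjective hπ).toEquiv, Nat.card_congr e₃, Nat.card_prod,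
      Nat.card_prod, Nat.card_eq_fintype_card, hF, ← pow_add, ← pow_add]
    congr 1
    ring
  have hidx : ¬ 2 ∣ π.range.index := by
    intro h2
    have h1 : π.range.index * Nat.card π.range ∣ Nat.card (Matrix.SpecialLinearGroup (Fin 3) F) := by
      rw [Subgroup.index_mul_card, Subgroup.card_eq_card_quotient_mul_card_subgroup Z]
      exact dvd_mul_right _ _
    rw [hcard, CfsgLib.SL3Pres.card_SL_three, hF, ← pow_mul, mul_comm (2 ^ (n * 3))] at h1
    have h3 := h2.trans (Nat.dvd_of_mul_dvd_mul_right (by positivity) h1)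
    have key : ∀ i : ℕ, i ≠ 0 → ¬ 2 ∣ (2 ^ n) ^ i - 1 := by
      intro i hi hd
      have h1 : 2 ∣ (2 ^ n) ^ i := dvd_pow (dvd_pow_self 2 (by omega)) hi
      have h4 : 1 ≤ (2 ^ n) ^ i := Nat.one_le_pow _ _ (by positivity)
      omega
    rcases Nat.prime_two.dvd_mul.1 h3 with h4 | h4
    · exact key 2 two_ne_zero (by simpa [← pow_mul] using h4)
    · exact key 3 three_ne_zero (by simpa [← pow_mul] using h4)
  exact ⟨(IsPGroup.of_card hcard).toSylow hidx, ⟨MonoidHom.ofInjective hπ⟩⟩

variable {Q : Type u} [Group Q] [Finite Q] {F : Type} [Field F] [Fintype F] {μ : F}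
  {α ρ : MulAut Q} {ι : Q → F} {π : Q → F × F}

/-- The squaring map of a coordinatised group is a quadratic form. -/
theorem Coord.quadratic (S : Singer μ α ρ ι) (hg : Gen μ) (C : Coord μ α ρ π)
    (hnc : ¬ ∀ x y : Q, x * y = y * x) :
    ∃ A B κ : F, κ ≠ 0 ∧ ∀ x, ι (x * x) ^ 2 =
      A * (π x).1 ^ 2 + κ * (π x).1 * (π x).2 + B * (π x).2 ^ 2 := by
  obtain ⟨κ, hκ, hκ0⟩ := C.form S hg
  have hmul : ∀ x y, ι (x * y * (x * y)) = ι (x * x) + ι (y * y) + ι (cm y x) := by
    intro x y
    have e : x * y * (x * y) = cm y x * (x * x * (y * y)) := by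
      rw [show x * y * (x * y) = x * (y * x) * y by group, mul_eq_cm_mul y x,
        ← mul_assoc x (cm y x), S.fixed_central hg (C.fixed_cm hg y x) x]
      group
    rw [e, S.ι_mul _ _ (C.fixed_cm hg _ _) (Singer.fixed_mul (C.fixed_sq' hg x) (C.fixed_sq' hg y)),
      S.ι_mul _ _ (C.fixed_sq' hg x) (C.fixed_sq' hg y)]
    ring
  have hdep : ∀ x x', π x = π x' → ι (x * x) = ι (x' * x') := by
    intro x x' h
    have hz : α (x * x'⁻¹) = x * x'⁻¹ := (C.ker _).1 (by
      rw [C.map_mul, C.map_inv hg, h]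
      exact Prod.ext (hg.add_self _) (hg.add_self _))
    conv_lhs => rw [← inv_mul_cancel_right x x']
    rw [hmul, S.fixed_sq hg hz, cm_eq_one_iff.2 (S.fixed_central hg hz x'), S.ι_one]
    ring
  choose X hX using C.surj
  let s : F × F → F := fun v => ι (X v * X v)
  have hs : ∀ x, ι (x * x) = s (π x) := fun x => hdep _ _ (hX _).symm
  have hscal : ∀ r v, s (r • v) = r * s v := by
    intro r v
    by_cases hr : r = 0
    · have h1 : π (1 : Q) = 0 := (C.ker 1).2 (map_one α)
      rw [hr, zero_smul, zero_mul, ← h1, ← hs, one_mul, S.ι_one]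
    obtain ⟨k, rfl⟩ := hg.gen r hr
    induction k with
    | zero => simp
    | succ k ih =>
      have hk := ih (pow_ne_zero k hg.ne_zero)
      rw [pow_succ', mul_smul, show s (μ • (μ ^ k • v)) = ι (ρ (X (μ ^ k • v)) * ρ (X (μ ^ k • v))) by
        rw [hs, C.map_ρ, hX], ← _root_.map_mul, S.ι_ρ _ (C.fixed_sq' hg _)]
      show μ * s (μ ^ k • v) = _
      rw [hk, mul_assoc]
  refine ⟨s (1, 0) ^ 2, s (0, 1) ^ 2, κ, fun h => hnc (hκ0 h), fun x => ?_⟩
  set a := (π x).1 with ha
  set b := (π x).2 with hb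
  set x₁ := X (a, 0)
  set x₂ := X (0, b)
  have hx : π x = π (x₁ * x₂) := by
    rw [C.map_mul, hX, hX]
    exact Prod.ext (by simp [ha]) (by simp [hb])
  have e1 : ι (x₁ * x₁) = a * s (1, 0) := by
    rw [← hscal]; show s (a, 0) = _; congr 1; exact Prod.ext (by simp) (by simp)
  have e2 : ι (x₂ * x₂) = b * s (0, 1) := by
    rw [← hscal]; show s (0, b) = _; congr 1; exact Prod.ext (by simp) (by simp)
  rw [hdep _ _ hx, hmul, hg.sq_add, hg.sq_add, hκ, hX, hX, e1, e2]
  simp only [det2]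
  ring

/-- The coordinatised group as an extension with squaring map `Φ`. -/
theorem Coord.sqExt (S : Singer μ α ρ ι) (hg : Gen μ) (C : Coord μ α ρ π) (Φ : F × F → F)
    (hΦ : ∀ x, ι (x * x) ^ 2 = Φ (π x)) : ∃ j : F → Q, SqExt π j Φ := by
  have hex : ∀ c, ∃ z, α z = z ∧ ι z ^ 2 = c := fun c => by
    obtain ⟨s, hs⟩ := hg.exists_sqrt c
    obtain ⟨z, hz, hz'⟩ := S.ι_surj s
    exact ⟨z, hz, by rw [hz', hs]⟩
  choose j hj hj2 using hex
  have huniq : ∀ z c, α z = z → ι z ^ 2 = c → z = j c := fun z c hz h =>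
    S.ι_ext hz (hj c) (hg.sq_inj (h.trans (hj2 c).symm))
  refine ⟨j, ⟨C.map_mul, C.surj, fun a b => ?_, fun a b h => ?_, fun c => (C.ker _).2 (hj c),
    fun x h => ⟨_, huniq x _ ((C.ker x).1 h) rfl⟩, fun c x => (S.fixed_central hg (hj c) x).symm,
    fun x => huniq _ _ (C.fixed_sq' hg x) (hΦ x)⟩⟩
  · refine (huniq _ _ (Singer.fixed_mul (hj a) (hj b)) ?_).symm
    rw [S.ι_mul _ _ (hj a) (hj b), hg.sq_add, hj2, hj2]
  · rw [← hj2 a, h, hj2]

theorem heis_sqExt {F : Type*} [Field F] (two : (2 : F) = 0) (Φ : F × F → F)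
    (g : F × F ≃+ F × F) (hg : ∀ v, (g v).1 * (g v).2 = Φ v) :
    SqExt (fun x : Heis F => g.symm (x.a, x.b)) (fun c => ⟨0, 0, c⟩) Φ := by
  refine ⟨fun x y => ?_, fun v => ?_, fun a b => ?_, fun a b h => congrArg Heis.c h,
    fun c => by simp [show ((0 : F), (0 : F)) = 0 from rfl], fun x h => ⟨x.c, ?_⟩, fun c x => ?_,
    fun x => ?_⟩
  · rw [← map_add]; rfl
  · exact ⟨⟨(g v).1, (g v).2, 0⟩, by simp⟩
  · ext <;> simp [Heis.mul_def]
  · have h' : (x.a, x.b) = (0 : F × F) := g.symm.injective (h.trans (map_zero g.symm).symm)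
    simp only [Prod.mk_eq_zero] at h'
    ext <;> simp [h'.1, h'.2]
  · ext <;> simp [Heis.mul_def, add_comm]
  · have e : x.a * x.b = Φ (g.symm (x.a, x.b)) := by
      rw [← hg, g.apply_symm_apply]
    ext <;> simp only [Heis.mul_def]
    · linear_combination x.a * two
    · linear_combination x.b * two
    · rw [← e]; linear_combination x.c * two

open CfsgLib.UThreeSylow in
/-- A quadratic form without zeros is the squaring map of the Sylow subgroup of `PSU₃(q)`. -/
theorem uThree_sqExt {n : ℕ} (hn : 1 ≤ n) (hF : Fintype.card F = 2 ^ n) (hg : Gen μ) {A B κ : F}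
    (hA : A ≠ 0) (hκ : κ ≠ 0) (haniso : ∀ t, A * t ^ 2 + κ * t + B ≠ 0) :
    ∃ (K : Type) (_ : Field K) (_ : Fintype K) (h : Good K n (2 ^ n))
      (π' : uSub h → F × F) (j : F → uSub h),
      SqExt π' j (fun v => A * v.1 ^ 2 + κ * v.1 * v.2 + B * v.2 ^ 2) := by
  classical
  open Polynomial in
  set k := κ / A with hk
  set b := B / A with hb
  let p : Polynomial F := Polynomial.X ^ 2 + Polynomial.C k * Polynomial.X + Polynomial.C b
  have hm : p.Monic := by
    simp only [p]; monicity!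
  have hdeg : p.natDegree = 2 := by
    simp only [p]; compute_degree!
  have hirr : Irreducible p := by
    rw [hm.irreducible_iff_roots_eq_zero_of_degree_le_three (by omega) (by omega)]
    refine Multiset.eq_zero_of_forall_notMem fun t ht => ?_
    rw [Polynomial.mem_roots hm.ne_zero, Polynomial.IsRoot] at ht
    simp only [p, Polynomial.eval_add, Polynomial.eval_pow, Polynomial.eval_X, Polynomial.eval_mul,
      Polynomial.eval_C, hk, hb] at ht
    refine haniso t ?_
    field_simp at ht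
    linear_combination ht
  haveI : Fact (Irreducible p) := ⟨hirr⟩
  let K := AdjoinRoot p
  let pb := AdjoinRoot.powerBasis hm.ne_zero
  haveI : Module.Finite F K := pb.finite
  haveI : Finite K := Module.finite_of_finite F
  letI : Fintype K := Fintype.ofFinite K
  have hK : Fintype.card K = (2 ^ n) ^ 2 := by
    rw [← Nat.card_eq_fintype_card, Module.natCard_eq_pow_finrank (K := F), Nat.card_eq_fintype_card,
      hF, pb.finrank]
    simp [pb, hdeg]
  have h : Good K n (2 ^ n) := ⟨rfl, hn, hK⟩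
  set q := 2 ^ n with hq
  let φ : F →+* K := algebraMap F K
  have hφq : ∀ r, φ r ^ q = φ r := fun r => by
    rw [← map_pow]
    congr 1
    rw [← hF, FiniteField.pow_card]
  have hker : ∀ z : K, z ^ q = z → ∃ r, φ r = z := by
    intro z hz
    have hinj : Function.Injective fun r : F => (⟨φ r, (mem_trace_ker h).2 (hφq r)⟩ : (trace h).ker) :=
      fun r s e => φ.injective (congrArg Subtype.val e)
    have hbij : Function.Bijective fun r : F => (⟨φ r, (mem_trace_ker h).2 (hφq r)⟩ : (trace h).ker) :=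
      (Nat.bijective_iff_injective_and_card _).2 ⟨hinj, by
        rw [(card_fixed_and_surj h).1, Nat.card_eq_fintype_card, hF]⟩
    obtain ⟨r, hr⟩ := hbij.2 ⟨z, (mem_trace_ker h).2 hz⟩
    exact ⟨r, congrArg Subtype.val hr⟩
  let ω : K := AdjoinRoot.root p
  have hω : ω ^ 2 + φ k * ω + φ b = 0 := by
    have e : ∀ {R : Type} [CommRing R] (f : F →+* R) (x : R),
        Polynomial.eval₂ f x p = x ^ 2 + f k * x + f b := fun f x => by simp [p]
    exact (e φ ω).symm.trans (AdjoinRoot.eval₂_root p)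
  have hωF : ∀ r, φ r ≠ ω := by
    intro r hr
    rw [← hr, ← map_pow, ← map_mul, ← map_add, ← map_add, map_eq_zero] at hω
    refine haniso r ?_
    rw [hk, hb] at hω
    field_simp at hω
    linear_combination hω
  have hconj : ω ^ q = ω + φ k := by
    have h1 : (ω ^ q) ^ 2 + φ k * ω ^ q + φ b = 0 := by
      have e := congrArg (· ^ q) hω
      simp only [h.conj_add, mul_pow, hφq] at e
      rw [zero_pow (show q ≠ 0 by positivity), ← pow_mul, mul_comm 2, pow_mul] at e
      exact e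
    have h2 : (ω ^ q - ω) * (ω ^ q - ω - φ k) = 0 := by
      linear_combination h1 - hω - (ω ^ q * ω - ω ^ 2 + φ k * ω ^ q - φ k * ω) * h.two
    rcases mul_eq_zero.1 h2 with e | e
    · obtain ⟨r, hr⟩ := hker ω (sub_eq_zero.1 e)
      exact absurd hr (hωF r)
    · linear_combination e
  obtain ⟨a₀, ha₀⟩ := hg.exists_sqrt A
  have ha₀0 : a₀ ≠ 0 := fun e => hA (by rw [← ha₀, e]; ring)
  let ψ : F × F →+ K := AddMonoidHom.mk' (fun v => φ a₀ * (φ v.1 + φ v.2 * ω))
    (fun v w => by simp only [Prod.fst_add, Prod.snd_add, map_add]; ring)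
  have hψ : Function.Bijective ψ := by
    refine (Nat.bijective_iff_injective_and_card _).2 ⟨?_, ?_⟩
    · refine (injective_iff_map_eq_zero ψ).2 fun v hv => ?_
      have hv' : φ v.1 + φ v.2 * ω = 0 :=
        (mul_eq_zero.1 hv).resolve_left fun e => ha₀0 ((map_eq_zero φ).1 e)
      by_cases h2 : v.2 = 0
      · rw [h2, map_zero, zero_mul, add_zero, map_eq_zero] at hv'
        exact Prod.ext hv' h2
      · exfalso
        refine hωF (-(v.1 / v.2)) ?_
        have : φ v.2 ≠ 0 := fun e => h2 ((map_eq_zero φ).1 e)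
        rw [map_neg, map_div₀, ← neg_div, div_eq_iff this]
        linear_combination -hv'
    · rw [Nat.card_prod, Nat.card_eq_fintype_card, Nat.card_eq_fintype_card, hK, hF, sq]
  let e : F × F ≃+ K := AddEquiv.ofBijective ψ hψ
  refine ⟨K, inferInstance, inferInstance, h, fun g => e.symm (cA g),
    fun c => zEl h ⟨φ c, (mem_trace_ker h).2 (hφq c)⟩, ?_, ?_, ?_, ?_, ?_, ?_, ?_, ?_⟩
  · intro x y; rw [(coords_mul x y).1, map_add]
  · intro v
    exact ⟨gA h (e v), show e.symm (cA (gA h (e v))) = v by rw [cA_gA, e.symm_apply_apply]⟩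
  · intro a c
    rw [← zEl_add]
    congr 1
    exact Subtype.ext (map_add φ a c)
  · intro a c e'
    exact φ.injective (congrArg Subtype.val (zEl_injective e'))
  · intro c; rw [(zEl_spec _).1, map_zero]
  · intro x hx
    obtain ⟨hz, he⟩ := zEl_cB (e.symm.injective (hx.trans (map_zero e.symm).symm))
    obtain ⟨r, hr⟩ := hker _ ((mem_trace_ker h).1 hz)
    refine ⟨r, ?_⟩
    rw [← he]
    congr 1
    exact Subtype.ext hr.symm
  · intro c x; exact zEl_comm _ x
  · intro x
    refine coords_ext ?_ ?_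
    · rw [(coords_sq x).1, (zEl_spec _).1]
    · rw [(coords_sq x).2, (zEl_spec _).2]
      show cA x ^ (q + 1) = φ _
      conv_lhs => rw [← e.apply_symm_apply (cA x)]
      generalize e.symm (cA x) = v
      show (φ a₀ * (φ v.1 + φ v.2 * ω)) ^ (q + 1) = _
      rw [pow_succ, mul_pow, h.conj_add, mul_pow, hφq, hφq, hφq, hconj]
      have eA : φ a₀ * φ a₀ = φ A := by rw [← map_mul, ← sq, ha₀]
      have e1 : φ A * φ k = φ κ := by rw [← map_mul, hk, mul_div_cancel₀ _ hA]
      have e2 : φ A * φ b = φ B := by rw [← map_mul, hb, mul_div_cancel₀ _ hA]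
      simp only [map_add, map_mul, map_pow]
      linear_combination (φ v.1 + φ v.2 * (ω + φ k)) * (φ v.1 + φ v.2 * ω) * eA +
        φ v.1 * φ v.2 * e1 - φ v.2 ^ 2 * e2 + φ A * φ v.2 ^ 2 * hω +
        (φ A * φ v.1 * φ v.2 * ω - φ B * φ v.2 ^ 2) * h.two

end CfsgLib.SingerTwo
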