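import Cfsg.Agent.SingerTwo.Layers

/-!
# The quotient by the fixed points, and coordinates on an elementary layer
-/

set_option autoImplicit false

namespace CfsgLib.SingerTwo

/-- Coordinates: an equivariant map onto `F × F` with kernel the fixed points. -/
structure Coord {Q : Type*} [Group Q] {F : Type*} [Field F] (μ : F) (α ρ : MulAut Q)
    (π : Q → F × F) : Prop where
  map_mul : ∀ x y, π (x * y) = π x + π y
  ker : ∀ x, π x = 0 ↔ α x = x
  surj : Function.Surjective π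
  map_ρ : ∀ x, π (ρ x) = μ • π x
  map_α : ∀ x, π (α x) = ((π x).1 + (π x).2, (π x).2)

namespace Singer

variable {Q : Type*} [Group Q] [Finite Q] {F : Type*} [Field F] {μ : F} {α ρ : MulAut Q} {ι : Q → F}

theorem fix_normal (S : Singer μ α ρ ι) (hg : Gen μ) : S.fix.Normal :=
  ⟨fun c hc g => by
    have hc' : α c = c := hc
    rw [S.fixed_central hg hc' g, mul_inv_cancel_right]; exact hc⟩

theorem mem_fix {S : Singer μ α ρ ι} {x : Q} : x ∈ S.fix ↔ α x = x := Iff.rfl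

/-- The quotient by the fixed points satisfies the hypotheses again. -/
theorem exists_quot (S : Singer μ α ρ ι) (hg : Gen μ) [S.fix.Normal]
    (hne : ∃ x, α x ≠ x) :
    ∃ (α' ρ' : MulAut (Q ⧸ S.fix)) (ι' : Q ⧸ S.fix → F), Singer μ α' ρ' ι' ∧
      (∀ x : Q, α' x = (α x : Q ⧸ S.fix)) ∧ (∀ x : Q, ρ' x = (ρ x : Q ⧸ S.fix)) ∧
      (∀ x : Q, ι' x = ι (x⁻¹ * α x)) := by
  classical
  have hαN : S.fix.map (α : Q →* Q) = S.fix := by
    ext x
    simp only [Subgroup.mem_map]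
    exact ⟨fun ⟨y, hy, e⟩ => by
      have hy' : α y = y := hy
      rw [← e]; show α (α y) = α y; rw [hy', hy'],
      fun hx => ⟨x, hx, hx⟩⟩
  have hρN : S.fix.map (ρ : Q →* Q) = S.fix := by
    refine Subgroup.eq_of_le_of_card_ge ?_ ?_
    · rintro _ ⟨y, hy, rfl⟩; exact S.fixed_ρ hy
    · exact (Nat.card_congr (S.fix.equivMapOfInjective _ ρ.injective).toEquiv).le
  set α' : MulAut (Q ⧸ S.fix) := QuotientGroup.congr _ _ α hαN with hα'
  set ρ' : MulAut (Q ⧸ S.fix) := QuotientGroup.congr _ _ ρ hρN with hρ'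
  have hαx : ∀ x : Q, α' x = (α x : Q ⧸ S.fix) := fun x => QuotientGroup.congr_mk' _ _ α hαN x
  have hρx : ∀ x : Q, ρ' x = (ρ x : Q ⧸ S.fix) := fun x => QuotientGroup.congr_mk' _ _ ρ hρN x
  have hρk : ∀ (k : ℕ) (x : Q), (ρ' ^ k) x = ((ρ ^ k) x : Q ⧸ S.fix) := by
    intro k
    induction k with
    | zero => simp
    | succ k ih => intro x; rw [pow_succ', MulAut.mul_apply, ih, hρx, pow_succ', MulAut.mul_apply]
  have hinvar : ∀ x c, α c = c → (x * c)⁻¹ * α (x * c) = x⁻¹ * α x := by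
    intro x c hc
    rw [map_mul, hc, mul_inv_rev, mul_assoc, ← mul_assoc x⁻¹, S.fixed_central hg hc,
      inv_mul_cancel_left]
  let ι' : Q ⧸ S.fix → F := fun q => ι (q.out⁻¹ * α q.out)
  have hιx : ∀ x : Q, ι' x = ι (x⁻¹ * α x) := by
    intro x
    obtain ⟨c, hc⟩ := QuotientGroup.mk_out_eq_mul S.fix x
    show ι ((Quotient.out (x : Q ⧸ S.fix))⁻¹ * α (Quotient.out (x : Q ⧸ S.fix))) = _
    rw [hc, hinvar x c c.2]
  have hfix : ∀ x : Q, α' x = (x : Q ⧸ S.fix) ↔ α (x⁻¹ * α x) = x⁻¹ * α x := by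
    intro x
    rw [hαx, eq_comm, QuotientGroup.eq]
    rfl
  refine ⟨α', ρ', ι', ⟨?_, ?_, ?_, ?_, ?_, ?_, ?_, ?_⟩, hαx, hρx, hιx⟩
  · exact S.isPGroup.to_quotient S.fix
  · intro q
    induction q using QuotientGroup.induction_on with
    | _ x => rw [hαx, hαx, S.inv]
  · intro q
    induction q using QuotientGroup.induction_on with
    | _ x => rw [hρx, hαx, hαx, hρx, S.comm]
  · obtain ⟨m, hm, hμ⟩ := S.half
    refine ⟨m, MulEquiv.ext fun q => ?_, hμ⟩
    induction q using QuotientGroup.induction_on with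
    | _ x => rw [hρk, hm, hρx]
  · intro a b ha hb
    induction a using QuotientGroup.induction_on with
    | _ x =>
      induction b using QuotientGroup.induction_on with
      | _ y =>
        rw [hfix] at ha hb
        rw [← QuotientGroup.mk_mul, hιx, hιx, hιx, ← S.ι_mul _ _ ha hb, map_mul]
        congr 1
        rw [← (S.fixed_central hg ha (y⁻¹ * α y) : _)]
        rw [mul_inv_rev, mul_assoc y⁻¹, ← mul_assoc x⁻¹, ← S.fixed_central hg ha (α y), mul_assoc y⁻¹]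
  · intro a ha h0
    induction a using QuotientGroup.induction_on with
    | _ x =>
      rw [hfix] at ha
      rw [hιx] at h0
      rw [QuotientGroup.eq_one_iff]
      exact (inv_mul_eq_one.1 (S.ι_inj _ ha h0)).symm
  · intro r
    by_cases hr : r = 0
    · exact ⟨1, map_one α', by
        rw [hr, ← QuotientGroup.mk_one, hιx, map_one, mul_one, inv_one, S.ι_one]⟩
    obtain ⟨x₀, hx₀⟩ := hne
    have hne' : (⊤ : Subgroup (Q ⧸ S.fix)) ≠ ⊥ := fun h =>
      hx₀ ((QuotientGroup.eq_one_iff x₀).1 (Subgroup.mem_bot.1 (h ▸ Subgroup.mem_top _)))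
    have hinv' : ∀ q, α' (α' q) = q := by
      intro q
      induction q using QuotientGroup.induction_on with
      | _ x => rw [hαx, hαx, S.inv]
    obtain ⟨a, -, ha, ha1⟩ := exists_fixed_of_invol (S.isPGroup.to_quotient S.fix) α' hinv' ⊤ hne'
      fun _ _ => Subgroup.mem_top _
    induction a using QuotientGroup.induction_on with
    | _ x =>
      rw [hfix] at ha
      have hx0 : ι (x⁻¹ * α x) ≠ 0 := fun h => ha1 ((QuotientGroup.eq_one_iff x).2
        (inv_mul_eq_one.1 (S.ι_inj _ ha h)).symm)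
      obtain ⟨k, hk⟩ := hg.gen (r / ι (x⁻¹ * α x)) (div_ne_zero hr hx0)
      have e : ((ρ ^ k) x)⁻¹ * α ((ρ ^ k) x) = (ρ ^ k) (x⁻¹ * α x) := by
        rw [S.comm_pow, map_mul, map_inv]
      refine ⟨((ρ ^ k) x : Q), (hfix _).2 (by rw [e, S.fixed_pow ha]), ?_⟩
      rw [hιx, e, S.ι_pow ha, hk, div_mul_cancel₀ _ hx0]
  · intro a ha
    induction a using QuotientGroup.induction_on with
    | _ x =>
      rw [hfix] at ha
      rw [hρx, hιx, hιx, ← S.ι_ρ _ ha, map_mul, map_inv, S.comm]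

/-- Coordinates on an elementary group which is not fixed by `α`. -/
theorem exists_coord (S : Singer μ α ρ ι) (hg : Gen μ) (hsq : ∀ x : Q, x * x = 1)
    (hne : ∃ x, α x ≠ x) :
    ∃ π : Q → F × F, (∀ x y, π (x * y) = π x + π y) ∧ (∀ x, π x = 0 ↔ x = 1) ∧
      Function.Surjective π ∧ (∀ x, π (ρ x) = μ • π x) ∧
      ∀ x, π (α x) = ((π x).1 + (π x).2, (π x).2) := by
  classical
  have hinvx : ∀ x : Q, x⁻¹ = x := fun x => inv_eq_of_mul_eq_one_right (hsq x)
  have hc : ∀ x y : Q, x * y = y * x := fun x y => by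
    rw [← hinvx (x * y), mul_inv_rev, hinvx, hinvx]
  haveI : Std.Commutative (α := Q) (· * ·) := ⟨hc⟩
  haveI : Std.Associative (α := Q) (· * ·) := ⟨mul_assoc⟩
  have key : ∀ f : Q → Q, (∀ x y, f (x * y) = f x * f y) → (∀ x, f (α x) = α (f x)) →
      (∀ c, α c = c → f c = 1) → ∀ a, f (f a) = 1 := by
    intro f hf hfα hfc a
    have h1 : f (a * α a) = 1 := hfc _ (by rw [map_mul, S.inv, hc])
    rw [hf, hfα] at h1
    refine hfc _ ?_
    have e := eq_inv_of_mul_eq_one_right h1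
    rwa [hinvx] at e
  obtain ⟨m, hm, hμm⟩ := S.half
  have hT : ∀ j (a : Q), (ρ ^ (m * j)) ((ρ ^ (m * j)) a) = (ρ ^ j) a := fun j a => by
    rw [← MulAut.mul_apply, ← pow_add, ← two_mul, ← mul_assoc, pow_mul, hm]
  have hμj : ∀ j, (μ ^ (m * j)) ^ 2 = μ ^ j := fun j => by
    rw [← pow_mul, mul_comm (m * j) 2, ← mul_assoc, pow_mul, hμm]
  have hsw : ∀ (j k : ℕ) (a : Q), (ρ ^ j) ((ρ ^ k) a) = (ρ ^ k) ((ρ ^ j) a) := fun j k a => by
    rw [← MulAut.mul_apply, ← MulAut.mul_apply, pow_mul_comm]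
  have rel2 : ∀ j k, μ ^ j = μ ^ k → ∀ a : Q, (ρ ^ j) a = (ρ ^ k) a := by
    intro j k hjk a
    set j' := m * j with hj'
    set k' := m * k with hk'
    have hμ' : μ ^ j' = μ ^ k' := hg.sq_inj (by rw [hμj, hμj, hjk])
    have h := key (fun a => (ρ ^ j') a * (ρ ^ k') a) (fun x y => by
        simp only [map_mul]; ac_rfl) (fun x => by simp only [map_mul, S.comm_pow])
      (fun c hc' => by
        refine S.ι_inj _ (fixed_mul (S.fixed_pow hc' _) (S.fixed_pow hc' _)) ?_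
        rw [S.ι_mul _ _ (S.fixed_pow hc' _) (S.fixed_pow hc' _), S.ι_pow hc', S.ι_pow hc', hμ',
          hg.add_self]) a
    have e : (ρ ^ j') ((ρ ^ j') a * (ρ ^ k') a) * (ρ ^ k') ((ρ ^ j') a * (ρ ^ k') a) =
        (ρ ^ j) a * (ρ ^ k) a * ((ρ ^ j') ((ρ ^ k') a) * (ρ ^ j') ((ρ ^ k') a)) := by
      simp only [map_mul, hsw k' j']
      rw [hj', hk', hT, hT]
      ac_rfl
    rw [e, hsq, mul_one] at h
    rw [← hinvx ((ρ ^ k) a)]
    exact eq_inv_of_mul_eq_one_left h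
  have rel3 : ∀ j k l, μ ^ j + μ ^ k = μ ^ l → ∀ a : Q, (ρ ^ j) a * (ρ ^ k) a = (ρ ^ l) a := by
    intro j k l hjkl a
    set j' := m * j with hj'
    set k' := m * k with hk'
    set l' := m * l with hl'
    have hμ' : μ ^ j' + μ ^ k' = μ ^ l' := hg.sq_inj (by rw [hg.sq_add, hμj, hμj, hμj, hjkl])
    have h := key (fun a => (ρ ^ j') a * (ρ ^ k') a * (ρ ^ l') a) (fun x y => by
        simp only [map_mul]; ac_rfl) (fun x => by simp only [map_mul, S.comm_pow])
      (fun c hc' => by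
        have h1 := fixed_mul (α := α) (S.fixed_pow hc' j') (S.fixed_pow hc' k')
        refine S.ι_inj _ (fixed_mul h1 (S.fixed_pow hc' l')) ?_
        rw [S.ι_mul _ _ h1 (S.fixed_pow hc' l'),
          S.ι_mul _ _ (S.fixed_pow hc' j') (S.fixed_pow hc' k'), S.ι_pow hc', S.ι_pow hc',
          S.ι_pow hc', ← add_mul, hμ', hg.add_self]) a
    simp only [map_mul, hsw k' j', hsw l' j', hsw l' k'] at h
    rw [hj', hk', hl', hT, hT, hT, ← hj', ← hk', ← hl'] at h
    generalize (ρ ^ j') ((ρ ^ k') a) = A at h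
    generalize (ρ ^ j') ((ρ ^ l') a) = B at h
    generalize (ρ ^ k') ((ρ ^ l') a) = D at h
    generalize (ρ ^ j) a = J at h ⊢
    generalize (ρ ^ k) a = K at h ⊢
    generalize (ρ ^ l) a = L at h ⊢
    have e : J * K * L * ((A * A) * (B * B) * (D * D)) = 1 := by
      rw [← h]; ac_rfl
    simp only [hsq, one_mul, mul_one] at e
    rw [← hinvx L]
    exact eq_inv_of_mul_eq_one_left e
  -- scalar multiples
  let lg : F → ℕ := fun r => if h : r = 0 then 0 else (hg.gen r h).choose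
  have hlg : ∀ r, r ≠ 0 → μ ^ lg r = r := fun r h => by
    simp only [lg, dif_neg h]; exact (hg.gen r h).choose_spec
  let sm : Q → F → Q := fun a r => if r = 0 then 1 else (ρ ^ lg r) a
  have sm_zero : ∀ a, sm a 0 = 1 := fun a => if_pos rfl
  have sm_add : ∀ a r s, sm a (r + s) = sm a r * sm a s := by
    intro a r s
    by_cases hr : r = 0
    · rw [hr, zero_add, sm_zero, one_mul]
    by_cases hs : s = 0
    · rw [hs, add_zero, sm_zero, mul_one]
    by_cases hrs : r + s = 0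
    · rw [hrs, sm_zero, hg.eq_of_add hrs, hsq]
    · simp only [sm, if_neg hr, if_neg hs, if_neg hrs]
      exact (rel3 _ _ _ (by rw [hlg _ hr, hlg _ hs, hlg _ hrs]) a).symm
  have sm_ρ : ∀ a r, sm a (μ * r) = ρ (sm a r) := by
    intro a r
    by_cases hr : r = 0
    · rw [hr, mul_zero, sm_zero, map_one]
    · simp only [sm, if_neg hr, if_neg (mul_ne_zero hg.ne_zero hr)]
      rw [← MulAut.mul_apply, ← pow_succ']
      refine rel2 _ _ ?_ a
      rw [hlg _ (mul_ne_zero hg.ne_zero hr), pow_succ', hlg _ hr]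
  obtain ⟨a₁, ha₁, hι₁⟩ := S.ι_surj 1
  have sm1 : ∀ r, α (sm a₁ r) = sm a₁ r ∧ ι (sm a₁ r) = r := by
    intro r
    by_cases hr : r = 0
    · rw [hr, sm_zero]; exact ⟨map_one α, S.ι_one⟩
    · simp only [sm, if_neg hr]
      exact ⟨S.fixed_pow ha₁ _, by rw [S.ι_pow ha₁, hlg _ hr, hι₁, mul_one]⟩
  have hD : ∀ x : Q, α (x * α x) = x * α x := fun x => by rw [map_mul, S.inv, hc]
  obtain ⟨a₂, ha₂⟩ : ∃ a₂, α a₂ = a₂ * a₁ := by
    obtain ⟨y, hy⟩ := hne
    have h0 : ι (y * α y) ≠ 0 := fun h => hy (by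
      rw [← inv_eq_of_mul_eq_one_right (S.ι_inj _ (hD y) h), hinvx])
    obtain ⟨k, hk⟩ := hg.gen (1 / ι (y * α y)) (div_ne_zero one_ne_zero h0)
    refine ⟨(ρ ^ k) y, ?_⟩
    have e : (ρ ^ k) (y * α y) = a₁ := S.ι_ext (S.fixed_pow (hD y) k) ha₁ (by
      rw [S.ι_pow (hD y), hk, div_mul_cancel₀ _ h0, hι₁])
    rw [← e, S.comm_pow, map_mul, ← mul_assoc, hsq, one_mul]
  have sm2 : ∀ s, α (sm a₂ s) = sm a₂ s * sm a₁ s := by
    intro s
    by_cases hs : s = 0
    · rw [hs, sm_zero, sm_zero, map_one, one_mul]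
    · simp only [sm, if_neg hs]
      rw [S.comm_pow, ha₂, map_mul]
  let snd : Q → F := fun x => ι (x * α x)
  have hsnd : ∀ x, x * α x = sm a₁ (snd x) := fun x =>
    S.ι_ext (hD x) (sm1 _).1 (sm1 _).2.symm
  have hαx : ∀ x, α x = x * sm a₁ (snd x) := fun x => by
    rw [← hsnd, ← mul_assoc, hsq, one_mul]
  have hfst : ∀ x, α (x * sm a₂ (snd x)) = x * sm a₂ (snd x) := by
    intro x
    rw [map_mul, sm2, hαx x]
    rw [show x * sm a₁ (snd x) * (sm a₂ (snd x) * sm a₁ (snd x)) =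
      x * sm a₂ (snd x) * (sm a₁ (snd x) * sm a₁ (snd x)) by ac_rfl, hsq, mul_one]
  have snd_mul : ∀ x y, snd (x * y) = snd x + snd y := by
    intro x y
    show ι (x * y * α (x * y)) = ι (x * α x) + ι (y * α y)
    rw [← S.ι_mul _ _ (hD x) (hD y), map_mul]
    congr 1
    ac_rfl
  refine ⟨fun x => (ι (x * sm a₂ (snd x)), snd x), ?_, ?_, ?_, ?_, ?_⟩
  · intro x y
    refine Prod.ext ?_ (snd_mul x y)
    show ι (x * y * sm a₂ (snd (x * y))) = ι (x * sm a₂ (snd x)) + ι (y * sm a₂ (snd y))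
    rw [← S.ι_mul _ _ (hfst x) (hfst y), snd_mul, sm_add]
    congr 1
    ac_rfl
  · intro x
    refine ⟨fun h => ?_, fun h => ?_⟩
    · simp only [Prod.mk_eq_zero] at h
      have := S.ι_inj _ (hfst x) h.1
      rwa [h.2, sm_zero, mul_one] at this
    · subst h
      have h2 : snd 1 = 0 := by show ι (1 * α 1) = 0; rw [map_one, one_mul, S.ι_one]
      simp only [h2, sm_zero, mul_one, S.ι_one, Prod.mk_eq_zero, and_self]
  · rintro ⟨r, s⟩
    refine ⟨sm a₁ r * sm a₂ s, ?_⟩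
    have h2 : snd (sm a₁ r * sm a₂ s) = s := by
      show ι (sm a₁ r * sm a₂ s * α (sm a₁ r * sm a₂ s)) = s
      rw [map_mul, (sm1 r).1, sm2,
        show sm a₁ r * sm a₂ s * (sm a₁ r * (sm a₂ s * sm a₁ s)) =
          (sm a₁ r * sm a₁ r) * (sm a₂ s * sm a₂ s) * sm a₁ s by ac_rfl,
        hsq, hsq, one_mul, one_mul, (sm1 s).2]
    simp only [h2, mul_assoc, hsq, mul_one, (sm1 r).2]
  · intro x
    have h2 : snd (ρ x) = μ * snd x := by
      show ι (ρ x * α (ρ x)) = μ * ι (x * α x)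
      rw [S.comm, ← map_mul, S.ι_ρ _ (hD x)]
    refine Prod.ext ?_ (by simpa using h2)
    show ι (ρ x * sm a₂ (snd (ρ x))) = μ * ι (x * sm a₂ (snd x))
    rw [h2, sm_ρ, ← map_mul, S.ι_ρ _ (hfst x)]
  · intro x
    have h2 : snd (α x) = snd x := by
      show ι (α x * α (α x)) = ι (x * α x)
      rw [S.inv, hc]
    refine Prod.ext ?_ h2
    show ι (α x * sm a₂ (snd (α x))) = ι (x * sm a₂ (snd x)) + snd x
    have e := S.ι_mul _ _ (hfst x) (sm1 (snd x)).1
    rw [(sm1 (snd x)).2] at e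
    rw [← e, h2, hαx x, show x * sm a₁ (snd x) * sm a₂ (snd x) =
      x * sm a₂ (snd x) * sm a₁ (snd x) by ac_rfl]

end Singer

end CfsgLib.SingerTwo
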