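import Cfsg.Agent.SingerTwo.Quot

/-!
# The structure theorem

A non-commutative group satisfying `Singer` has coordinates `π : Q → F × F` with kernel the fixed
point group, and its commutator form is a nonzero multiple of the determinant (after squaring).
-/

set_option autoImplicit false

universe u

namespace CfsgLib.SingerTwo

namespace Singer

variable {Q : Type*} [Group Q] [Finite Q] {F : Type*} [Field F] [Finite F] {μ : F} {α ρ : MulAut Q}
  {ι : Q → F}

/-- A subgroup with an equivariant parameter in `F`, whose parameter kernel is central in it and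
whose commutators are fixed, is commutative. -/
theorem comm_of_param (S : Singer μ α ρ ι) (hg : Gen μ) (K : Subgroup Q) (φ : Q → F)
    (hρK : ∀ x ∈ K, ρ x ∈ K) (hmul : ∀ x ∈ K, ∀ y ∈ K, φ (x * y) = φ x + φ y)
    (hker : ∀ x ∈ K, φ x = 0 → ∀ y ∈ K, x * y = y * x)
    (hcm : ∀ x ∈ K, ∀ y ∈ K, α (cm x y) = cm x y) (hsurj : ∀ r, ∃ x ∈ K, φ x = r)
    (hφρ : ∀ x ∈ K, φ (ρ x) = μ * φ x) : ∀ x ∈ K, ∀ y ∈ K, x * y = y * x := by
  choose X hXK hX using hsurj
  have φinv : ∀ x ∈ K, φ x⁻¹ = φ x := by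
    intro x hx
    have h1 := hmul 1 K.one_mem 1 K.one_mem
    rw [one_mul] at h1
    have h2 := hmul x⁻¹ (K.inv_mem hx) x hx
    rw [inv_mul_cancel] at h2
    exact hg.eq_of_add (by linear_combination -h2 - h1)
  have left : ∀ x ∈ K, ∀ y ∈ K, cm x y = cm (X (φ x)) y := by
    intro x hx y hy
    set z := x * (X (φ x))⁻¹ with hz
    have hzK : z ∈ K := K.mul_mem hx (K.inv_mem (hXK _))
    have hz0 : φ z = 0 := by
      rw [hz, hmul _ hx _ (K.inv_mem (hXK _)), φinv _ (hXK _), hX, hg.add_self]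
    have e : x = z * X (φ x) := (inv_mul_cancel_right _ _).symm
    conv_lhs => rw [e]
    rw [cm_mul_left (S.fixed_central hg (hcm _ (hXK _) _ hy) z),
      cm_eq_one_iff.2 (hker z hzK hz0 y hy), mul_one]
  have right : ∀ x ∈ K, ∀ y ∈ K, cm x y = cm x (X (φ y)) := by
    intro x hx y hy
    rw [cm_swap y x, left y hy x hx, ← cm_swap]
  let B : F → F → F := fun u v => ι (cm (X u) (X v))
  have hB : ∀ x ∈ K, ∀ y ∈ K, ι (cm x y) = B (φ x) (φ y) := fun x hx y hy => by
    rw [left x hx y hy, right _ (hXK _) y hy]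
  have hl : ∀ u u' v, B (u + u') v = B u v + B u' v := by
    intro u u' v
    rw [← hX u, ← hX u', ← hmul _ (hXK _) _ (hXK _), ← hX v,
      ← hB _ (K.mul_mem (hXK _) (hXK _)) _ (hXK _), ← hB _ (hXK _) _ (hXK _),
      ← hB _ (hXK _) _ (hXK _),
      cm_mul_left (S.fixed_central hg (hcm _ (hXK _) _ (hXK _)) _),
      S.ι_mul _ _ (hcm _ (hXK _) _ (hXK _)) (hcm _ (hXK _) _ (hXK _)), add_comm]
  have hr : ∀ u v v', B u (v + v') = B u v + B u v' := by
    intro u v v'
    rw [← hX u, ← hX v', ← hX v, ← hmul _ (hXK _) _ (hXK _),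
      ← hB _ (hXK _) _ (K.mul_mem (hXK _) (hXK _)), ← hB _ (hXK _) _ (hXK _),
      ← hB _ (hXK _) _ (hXK _),
      cm_mul_right (S.fixed_central hg (hcm _ (hXK _) _ (hXK _)) _),
      S.ι_mul _ _ (hcm _ (hXK _) _ (hXK _)) (hcm _ (hXK _) _ (hXK _))]
  have he : ∀ u v, B (μ * u) (μ * v) = μ * B u v := by
    intro u v
    rw [← hX u, ← hX v, ← hφρ _ (hXK _), ← hφρ _ (hXK _),
      ← hB _ (hρK _ (hXK _)) _ (hρK _ (hXK _)), ← hB _ (hXK _) _ (hXK _), ← map_cm',
      S.ι_ρ _ (hcm _ (hXK _) _ (hXK _))]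
  have ha : B 1 1 = 0 := by
    show ι (cm (X 1) (X 1)) = 0
    rw [cm_self, S.ι_one]
  intro x hx y hy
  refine cm_eq_one_iff.1 (S.ι_inj _ (hcm x hx y hy) ?_)
  rw [hB x hx y hy, hg.pairing_alt B hl hr he ha]

/-- The second layer is commutative. -/
theorem comm_second (S : Singer μ α ρ ι) (hg : Gen μ) (x y : Q)
    (hx : α (x⁻¹ * α x) = x⁻¹ * α x) (hy : α (y⁻¹ * α y) = y⁻¹ * α y) : x * y = y * x := by
  by_cases hne : ∃ z, α z ≠ z
  swap
  · exact S.fixed_central hg (not_not.1 fun h => hne ⟨y, h⟩) x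
  haveI := S.fix_normal hg
  obtain ⟨α', ρ', ι', S', hα', hρ', hι'⟩ := S.exists_quot hg hne
  have hP : ∀ z : Q, α' z = (z : Q ⧸ S.fix) ↔ α (z⁻¹ * α z) = z⁻¹ * α z := by
    intro z
    rw [hα', eq_comm, QuotientGroup.eq]
    rfl
  let K : Subgroup Q := S'.fix.comap (QuotientGroup.mk' S.fix)
  have memK : ∀ z, z ∈ K ↔ α (z⁻¹ * α z) = z⁻¹ * α z := fun z => hP z
  refine S.comm_of_param hg K (fun z => ι' z) ?_ ?_ ?_ ?_ ?_ ?_ x ((memK x).2 hx) y ((memK y).2 hy)
  · intro z hz
    show α' ((ρ z : Q) : Q ⧸ S.fix) = _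
    rw [← hρ', S'.fixed_ρ (show α' (z : Q ⧸ S.fix) = _ from hz)]
    exact hρ' z
  · intro a ha b hb
    exact S'.ι_mul _ _ ha hb
  · intro a ha h0 b _
    have : (a : Q ⧸ S.fix) = 1 := S'.ι_inj _ ha h0
    exact (S.fixed_central hg ((QuotientGroup.eq_one_iff a).1 this) b).symm
  · intro a ha b hb
    refine (QuotientGroup.eq_one_iff (N := S.fix) (cm a b)).1 ?_
    show (QuotientGroup.mk' S.fix) (cm a b) = 1
    rw [map_cm, cm_eq_one_iff]
    exact S'.fixed_central hg hb _
  · intro r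
    obtain ⟨q, hq, hq'⟩ := S'.ι_surj r
    induction q using QuotientGroup.induction_on with
    | _ z => exact ⟨z, hq, hq'⟩
  · intro a ha
    show ι' ((ρ a : Q) : Q ⧸ S.fix) = _
    rw [← hρ']; exact S'.ι_ρ _ ha

/-- In a commutative group satisfying the hypotheses with a nontrivial square, an equivariant
parameter in `F` has the squares as kernel. -/
theorem exists_param_of_sq (S : Singer μ α ρ ι) (hg : Gen μ) (hc : ∀ x y : Q, x * y = y * x)
    (hsq : ∃ x : Q, x * x ≠ 1) :
    ∃ φ : Q → F, (∀ x y, φ (x * y) = φ x + φ y) ∧ (∀ x, φ x = 0 → ∃ z, x = z * z) ∧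
      (∀ r, ∃ x, φ x = r) ∧ ∀ x, φ (ρ x) = μ * φ x := by
  classical
  haveI : Fact (Nat.Prime 2) := ⟨Nat.prime_two⟩
  letI : CommGroup Q := { ‹Group Q› with mul_comm := hc }
  have hD : ∀ x : Q, α (x * α x) = x * α x := fun x => by rw [map_mul, S.inv, hc]
  let sq : Q →* Q := powMonoidHom 2
  let D : Q →* Q :=
    { toFun := fun x => x⁻¹ * α x
      map_one' := by simp
      map_mul' := fun x y => by simp [mul_inv_rev, mul_assoc, mul_left_comm] }
  have sq_def : ∀ x : Q, sq x = x * x := fun x => by simp [sq, powMonoidHom, pow_two]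
  have hne : sq.range ≠ ⊥ := by
    obtain ⟨x, hx⟩ := hsq
    intro h
    exact hx (Subgroup.mem_bot.1 (h ▸ ⟨x, sq_def x⟩))
  have hinv : ∀ (f : MulAut Q), ∀ x ∈ sq.range, f x ∈ sq.range := by
    rintro f _ ⟨z, rfl⟩
    exact ⟨f z, by rw [sq_def, sq_def, map_mul]⟩
  have hfix_sq : ∀ c, α c = c → c ∈ sq.range := fun c hc' =>
    S.fixed_mem hg _ hne (hinv α) (hinv ρ) hc'
  have hDsq : D.range ≤ sq.range := by
    rintro _ ⟨x, rfl⟩
    have e : D x = (x * x)⁻¹ * (x * α x) := by
      show x⁻¹ * α x = _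
      simp [mul_inv_rev, mul_assoc]
    rw [e]
    exact mul_mem (inv_mem ⟨x, sq_def x⟩) (hfix_sq _ (hD x))
  have hcard : ∀ f : Q →* Q, Nat.card f.range * Nat.card f.ker = Nat.card Q := fun f => by
    rw [← Nat.card_congr (QuotientGroup.quotientKerEquivRange f).toEquiv,
      ← Subgroup.card_eq_card_quotient_mul_card_subgroup]
  have hDker : ∀ x, x ∈ D.ker ↔ α x = x := fun x => by
    rw [MonoidHom.mem_ker]
    show x⁻¹ * α x = 1 ↔ _
    rw [inv_mul_eq_one, eq_comm]
  have hle : D.ker ≤ sq.ker := fun x hx => by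
    rw [MonoidHom.mem_ker, sq_def]; exact S.fixed_sq hg ((hDker x).1 hx)
  have hker : sq.ker = D.ker := by
    refine (Subgroup.eq_of_le_of_card_ge hle ?_).symm
    have h1 := hcard sq
    have h2 := hcard D
    have h3 : Nat.card D.range ≤ Nat.card sq.range :=
      Nat.le_of_dvd Nat.card_pos (Subgroup.card_dvd_of_le hDsq)
    have h4 : 0 < Nat.card D.range := Nat.card_pos
    by_contra hlt
    rw [not_le] at hlt
    have : Nat.card D.range * Nat.card D.ker < Nat.card sq.range * Nat.card sq.ker :=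
      Nat.mul_lt_mul_of_le_of_lt h3 hlt Nat.card_pos
    omega
  have hex : ∃ e : ℕ, ∀ x : Q, x ^ 2 ^ (e + 1) = 1 := by
    obtain ⟨k, hk⟩ := IsPGroup.iff_card.1 S.isPGroup
    refine ⟨k, fun x => ?_⟩
    rw [pow_succ, pow_mul, ← hk, pow_card_eq_one', one_pow]
  set e := Nat.find hex with he
  have he1 : e ≠ 0 := by
    intro h0
    obtain ⟨x, hx⟩ := hsq
    have := Nat.find_spec hex x
    rw [← he, h0, zero_add, pow_one, pow_two] at this
    exact hx this
  let g : Q →* Q := powMonoidHom (2 ^ e)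
  have g_def : ∀ x, g x = x ^ 2 ^ e := fun x => rfl
  have hgfix : ∀ x, α (g x) = g x := fun x => by
    rw [← hDker, ← hker, MonoidHom.mem_ker, sq_def, ← pow_two, g_def, ← pow_mul, ← pow_succ]
    exact Nat.find_spec hex x
  have hgne : g.range ≠ ⊥ := by
    intro h
    obtain ⟨f, hf⟩ := Nat.exists_eq_succ_of_ne_zero he1
    refine Nat.find_min hex (show f < e by omega) fun x => ?_
    have : g x = 1 := Subgroup.mem_bot.1 (h ▸ ⟨x, rfl⟩)
    rw [g_def, hf] at this
    exact this
  have hginv : ∀ (f : MulAut Q), ∀ x ∈ g.range, f x ∈ g.range := by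
    rintro f _ ⟨z, rfl⟩
    exact ⟨f z, by rw [g_def, g_def, map_pow]⟩
  have hgrange : g.range = D.ker := by
    refine le_antisymm ?_ fun c hc' => S.fixed_mem hg _ hgne (hginv α) (hginv ρ) ((hDker c).1 hc')
    rintro _ ⟨x, rfl⟩; exact (hDker _).2 (hgfix x)
  have hgker : g.ker = sq.range := by
    have hle' : sq.range ≤ g.ker := by
      rintro _ ⟨x, rfl⟩
      rw [MonoidHom.mem_ker, g_def, sq_def, ← pow_two, ← pow_mul, ← pow_succ']
      exact Nat.find_spec hex x
    refine (Subgroup.eq_of_le_of_card_ge hle' ?_).symm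
    have h1 := hcard g
    have h2 := hcard sq
    rw [hgrange] at h1
    rw [hker] at h2
    have h5 : 0 < Nat.card D.ker := Nat.card_pos
    refine (Nat.eq_of_mul_eq_mul_left h5 ?_).le
    rw [h1, ← h2, mul_comm]
  refine ⟨fun x => ι (g x), fun x y => ?_, fun x h0 => ?_, fun r => ?_, fun x => ?_⟩
  · show ι (g (x * y)) = ι (g x) + ι (g y)
    rw [map_mul, S.ι_mul _ _ (hgfix x) (hgfix y)]
  · have : x ∈ g.ker := MonoidHom.mem_ker.2 (S.ι_inj _ (hgfix x) h0)
    rw [hgker] at this
    obtain ⟨z, hz⟩ := this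
    exact ⟨z, by rw [← hz, sq_def]⟩
  · obtain ⟨c, hc', hr⟩ := S.ι_surj r
    have : c ∈ g.range := hgrange ▸ (hDker c).2 hc'
    obtain ⟨x, hx⟩ := this
    exact ⟨x, by rw [← hr, ← hx]⟩
  · show ι ((ρ x) ^ 2 ^ e) = μ * ι (g x)
    rw [← map_pow, ← g_def, S.ι_ρ _ (hgfix x)]

end Singer

/-- The determinant form. -/
def det2 {F : Type*} [Field F] (v w : F × F) : F := v.1 * w.2 + v.2 * w.1

section Top

variable {Q : Type*} [Group Q] [Finite Q] {F : Type*} [Field F] [Finite F] {μ : F} {α ρ : MulAut Q}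
  {ι : Q → F} {π : Q → F × F}

variable (S : Singer μ α ρ ι) (hg : Gen μ) (C : Coord μ α ρ π)

include C hg

theorem Coord.map_inv (x : Q) : π x⁻¹ = π x := by
  have h1 := C.map_mul 1 1
  rw [one_mul] at h1
  have h2 := C.map_mul x⁻¹ x
  rw [inv_mul_cancel] at h2
  refine Prod.ext (hg.eq_of_add ?_) (hg.eq_of_add ?_)
  · have a := congrArg Prod.fst h1
    have b := congrArg Prod.fst h2
    simp only [Prod.fst_add] at a b
    linear_combination -b - a
  · have a := congrArg Prod.snd h1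
    have b := congrArg Prod.snd h2
    simp only [Prod.snd_add] at a b
    linear_combination -b - a

theorem Coord.fixed_cm (x y : Q) : α (cm x y) = cm x y := by
  refine (C.ker _).1 ?_
  rw [cm, C.map_mul, C.map_mul, C.map_mul, C.map_inv hg, C.map_inv hg]
  exact Prod.ext (by simp only [Prod.fst_add, Prod.fst_zero]; linear_combination ((π x).1 + (π y).1) * hg.two)
    (by simp only [Prod.snd_add, Prod.snd_zero]; linear_combination ((π x).2 + (π y).2) * hg.two)

theorem Coord.fixed_sq' (x : Q) : α (x * x) = x * x := by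
  refine (C.ker _).1 ?_
  rw [C.map_mul]
  exact Prod.ext (hg.add_self _) (hg.add_self _)

include S

theorem Coord.ι_cm_congr {x x' y y' : Q} (hx : π x = π x') (hy : π y = π y') :
    ι (cm x y) = ι (cm x' y') := by
  have key : ∀ {x x' : Q}, π x = π x' → ∀ y, cm x y = cm x' y := by
    intro x x' h y
    have hz : α (x * x'⁻¹) = x * x'⁻¹ := (C.ker _).1 (by
      rw [C.map_mul, C.map_inv hg, h]
      exact Prod.ext (hg.add_self _) (hg.add_self _))
    conv_lhs => rw [← inv_mul_cancel_right x x']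
    rw [cm_mul_left (S.fixed_central hg (C.fixed_cm hg _ _) _),
      cm_eq_one_iff.2 (S.fixed_central hg hz y).symm, mul_one]
  rw [key hx, cm_swap y x', key hy, ← cm_swap]

/-- The squared commutator form is a multiple of the determinant. -/
theorem Coord.form : ∃ κ : F, (∀ x y, ι (cm x y) ^ 2 = κ * det2 (π x) (π y)) ∧
    (κ = 0 → ∀ x y : Q, x * y = y * x) := by
  choose X hX using C.surj
  let b : F × F → F × F → F := fun v w => ι (cm (X v) (X w))
  have hb : ∀ x y, ι (cm x y) = b (π x) (π y) := fun x y =>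
    C.ι_cm_congr S hg (hX _).symm (hX _).symm
  have bl : ∀ v v' w, b (v + v') w = b v w + b v' w := by
    intro v v' w
    rw [show b (v + v') w = ι (cm (X v * X v') (X w)) by
      rw [hb, C.map_mul, hX, hX, hX],
      cm_mul_left (S.fixed_central hg (C.fixed_cm hg _ _) _),
      S.ι_mul _ _ (C.fixed_cm hg _ _) (C.fixed_cm hg _ _), add_comm]
  have br : ∀ v w w', b v (w + w') = b v w + b v w' := by
    intro v w w'
    rw [show b v (w + w') = ι (cm (X v) (X w * X w')) by
      rw [hb, C.map_mul, hX, hX, hX],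
      cm_mul_right (S.fixed_central hg (C.fixed_cm hg _ _) _),
      S.ι_mul _ _ (C.fixed_cm hg _ _) (C.fixed_cm hg _ _)]
  have be : ∀ v w, b (μ • v) (μ • w) = μ * b v w := by
    intro v w
    rw [show b (μ • v) (μ • w) = ι (cm (ρ (X v)) (ρ (X w))) by
      rw [hb, C.map_ρ, C.map_ρ, hX, hX], ← map_cm', S.ι_ρ _ (C.fixed_cm hg _ _)]
  have bsymm : ∀ v w, b w v = b v w := fun v w => by
    show ι (cm (X w) (X v)) = ι (cm (X v) (X w))
    rw [cm_swap (X v) (X w), S.ι_inv hg (C.fixed_cm hg _ _)]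
  have bdiag : ∀ v, b v v = 0 := fun v => by
    show ι (cm (X v) (X v)) = 0
    rw [cm_self, S.ι_one]
  have line : ∀ v w r s, b (r • v) (s • w) ^ 2 = r * s * b v w ^ 2 := fun v w r s => by
    have h := hg.pairing (fun r s => b (r • v) (s • w))
      (fun r r' s => by simp only [add_smul, bl]) (fun r s s' => by simp only [add_smul, br])
      (fun r s => by simp only [mul_smul, be]) r s
    simpa only [one_smul] using h
  refine ⟨b (1, 0) (0, 1) ^ 2, fun x y => ?_, fun h0 x y => ?_⟩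
  · rw [hb]
    generalize π x = v
    generalize π y = w
    have e : ∀ v : F × F, v = v.1 • ((1, 0) : F × F) + v.2 • ((0, 1) : F × F) := fun v =>
      Prod.ext (by simp) (by simp)
    conv_lhs => rw [e v, e w]
    rw [bl, br, br, hg.sq_add, hg.sq_add, hg.sq_add, line, line, line, line, bdiag, bdiag,
      bsymm (1, 0) (0, 1), det2]
    ring
  · refine cm_eq_one_iff.1 (S.ι_inj _ (C.fixed_cm hg x y) (eq_zero_of_pow_eq_zero (n := 2) ?_))
    rw [hb]
    generalize π x = v
    generalize π y = w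
    have e : ∀ v : F × F, v = v.1 • ((1, 0) : F × F) + v.2 • ((0, 1) : F × F) := fun v =>
      Prod.ext (by simp) (by simp)
    conv_lhs => rw [e v, e w]
    rw [bl, br, br, hg.sq_add, hg.sq_add, hg.sq_add, line, line, line, line, bdiag, bdiag,
      bsymm (1, 0) (0, 1), h0]
    ring

end Top

namespace Singer

variable {Q : Type*} [Group Q] [Finite Q] {F : Type*} [Field F] [Finite F] {μ : F} {α ρ : MulAut Q}
  {ι : Q → F}

/-- The quotient by the fixed points cannot have coordinates unless it is commutative. -/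
theorem comm_of_quot_coord (S : Singer μ α ρ ι) (hg : Gen μ) [S.fix.Normal]
    {α' ρ' : MulAut (Q ⧸ S.fix)} {ι' : Q ⧸ S.fix → F} (S' : Singer μ α' ρ' ι')
    (hα' : ∀ x : Q, α' x = (α x : Q ⧸ S.fix)) (hρ' : ∀ x : Q, ρ' x = (ρ x : Q ⧸ S.fix))
    (hι' : ∀ x : Q, ι' x = ι (x⁻¹ * α x)) {π' : Q ⧸ S.fix → F × F} (C : Coord μ α' ρ' π') :
    ∀ a b : Q ⧸ S.fix, a * b = b * a := by
  set mk := QuotientGroup.mk' S.fix with hmk
  have hmkx : ∀ x, mk x = (x : Q ⧸ S.fix) := fun x => rfl
  obtain ⟨κ, hκ, hκ0⟩ := C.form S' hg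
  by_contra hnc
  have hκne : κ ≠ 0 := fun h => hnc (hκ0 h)
  let π : Q → F × F := fun x => π' (mk x)
  have πmul : ∀ x y, π (x * y) = π x + π y := fun x y => by
    show π' (mk (x * y)) = _
    rw [map_mul, C.map_mul]
  have πinv : ∀ x, π x⁻¹ = π x := fun x => by
    show π' (mk x⁻¹) = π' (mk x)
    rw [map_inv, C.map_inv hg]
  have πρ : ∀ x, π (ρ x) = μ • π x := fun x => by
    show π' ((ρ x : Q) : Q ⧸ S.fix) = _
    rw [← hρ', C.map_ρ]; rfl
  have hP : ∀ x, π x = 0 ↔ α (x⁻¹ * α x) = x⁻¹ * α x := fun x => by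
    show π' (mk x) = 0 ↔ _
    rw [C.ker, hmkx, hα', eq_comm, QuotientGroup.eq]
    rfl
  have Pcomm : ∀ x y, π x = 0 → π y = 0 → x * y = y * x := fun x y hx hy =>
    S.comm_second hg x y ((hP x).1 hx) ((hP y).1 hy)
  have Pmk : ∀ y, π y = 0 → α' (mk y) = mk y := fun y hy => (C.ker _).1 hy
  have cmfix : ∀ x y, π y = 0 → α (cm x y) = cm x y := by
    intro x y hy
    refine (QuotientGroup.eq_one_iff (N := S.fix) (cm x y)).1 ?_
    show mk (cm x y) = 1
    rw [map_cm, cm_eq_one_iff]
    exact S'.fixed_central hg (Pmk y hy) _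
  let p : Q → Q → F := fun x y => ι (cm x y)
  have pl : ∀ x x' y, π y = 0 → p (x * x') y = p x y + p x' y := by
    intro x x' y hy
    show ι (cm (x * x') y) = _
    rw [cm_mul_left (S.fixed_central hg (cmfix _ _ hy) _),
      S.ι_mul _ _ (cmfix _ _ hy) (cmfix _ _ hy), add_comm]
  have pr : ∀ x y y', π y = 0 → π y' = 0 → p x (y * y') = p x y + p x y' := by
    intro x y y' hy hy'
    show ι (cm x (y * y')) = _
    rw [cm_mul_right (S.fixed_central hg (cmfix _ _ hy') _),
      S.ι_mul _ _ (cmfix _ _ hy) (cmfix _ _ hy')]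
  -- dependence only on the classes
  have pcongr : ∀ x x' y y', π x = π x' → π y = 0 → π y' = 0 → ι' (mk y) = ι' (mk y') →
      p x y = p x' y' := by
    intro x x' y y' hxx hy hy' hyy
    have hz : π (x * x'⁻¹) = 0 := by
      rw [πmul, πinv, hxx]; exact Prod.ext (hg.add_self _) (hg.add_self _)
    have e1 : p x y = p x' y := by
      conv_lhs => rw [← inv_mul_cancel_right x x']
      rw [pl _ _ _ hy]
      show ι (cm (x * x'⁻¹) y) + _ = _
      rw [cm_eq_one_iff.2 (Pcomm _ _ hz hy), S.ι_one, zero_add]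
    have emk : mk y = mk y' := S'.ι_ext (Pmk y hy) (Pmk y' hy') hyy
    have hc : α (y'⁻¹ * y) = y'⁻¹ * y := QuotientGroup.eq.1 (emk.symm : (y' : Q ⧸ S.fix) = y)
    have hc0 : π (y'⁻¹ * y) = 0 := by rw [πmul, πinv, hy, hy', add_zero]
    rw [e1]
    conv_lhs => rw [← mul_inv_cancel_left y' y]
    rw [pr _ _ _ hy' hc0]
    show _ + ι (cm x' (y'⁻¹ * y)) = _
    rw [cm_eq_one_iff.2 (S.fixed_central hg hc x'), S.ι_one, add_zero]
  have Xex : ∀ v, ∃ x, π x = v := fun v => by
    obtain ⟨q, hq⟩ := C.surj v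
    obtain ⟨x, rfl⟩ := QuotientGroup.mk_surjective q
    exact ⟨x, hq⟩
  have Yex : ∀ c, ∃ y, π y = 0 ∧ ι' (mk y) = c := fun c => by
    obtain ⟨q, hq, hq'⟩ := S'.ι_surj c
    obtain ⟨y, rfl⟩ := QuotientGroup.mk_surjective q
    exact ⟨y, (C.ker _).2 hq, hq'⟩
  choose X hX using Xex
  choose Y hY0 hY using Yex
  have hp : ∀ x y, π y = 0 → p x y = p (X (π x)) (Y (ι' (mk y))) := fun x y hy =>
    pcongr _ _ _ _ (hX _).symm hy (hY0 _) (hY _).symm
  have line : ∀ v r c, p (X (r • v)) (Y c) ^ 2 = r * c * p (X v) (Y 1) ^ 2 := by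
    intro v r c
    have h := hg.pairing (fun r c => p (X (r • v)) (Y c))
      (fun r r' c => by
        rw [← pl _ _ _ (hY0 _), hp (X (r • v) * X (r' • v)) _ (hY0 _), πmul, hX, hX, ← add_smul, hY])
      (fun r c c' => by
        have h0 : π (Y c * Y c') = 0 := by rw [πmul, hY0, hY0, add_zero]
        have h1 : ι' (mk (Y c * Y c')) = c + c' := by
          rw [map_mul, S'.ι_mul _ _ (Pmk _ (hY0 _)) (Pmk _ (hY0 _)), hY, hY]
        rw [← pr _ _ _ (hY0 _) (hY0 _), hp (X (r • v)) _ h0, hX, h1])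
      (fun r c => by
        have h0 : π (ρ (Y c)) = 0 := by rw [πρ, hY0, smul_zero]
        have h1 : ι' (mk (ρ (Y c))) = μ * c := by
          rw [hmkx, ← hρ', S'.ι_ρ _ (show α' ((Y c : Q) : Q ⧸ S.fix) = _ from Pmk _ (hY0 _))]
          exact congrArg (μ * ·) (hY c)
        have e : p (ρ (X (r • v))) (ρ (Y c)) = μ * p (X (r • v)) (Y c) := by
          show ι (cm _ _) = _
          rw [← map_cm', S.ι_ρ _ (cmfix _ _ (hY0 _))]
        rw [← e, hp (ρ (X (r • v))) _ h0, πρ, hX, h1, mul_smul]) r c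
    simpa only [one_smul] using h
  have πcm : ∀ x y, π (cm x y) = 0 := fun x y => by
    show π' (mk (cm x y)) = 0
    rw [map_cm]; exact (C.ker _).2 (C.fixed_cm hg _ _)
  have bform : ∀ x y, ι' (mk (cm x y)) ^ 2 = κ * det2 (π x) (π y) := fun x y => by
    rw [map_cm]; exact hκ _ _
  -- the second layer is central
  have pzero : ∀ v, v ≠ 0 → p (X v) (Y 1) = 0 := by
    intro v hv
    obtain ⟨w, hw⟩ : ∃ w : F × F, det2 w v ≠ 0 := by
      by_cases h1 : v.1 = 0
      · refine ⟨(1, 0), ?_⟩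
        have h2 : v.2 ≠ 0 := fun h2 => hv (Prod.ext h1 h2)
        simpa [det2] using h2
      · exact ⟨(0, 1), by simpa [det2] using h1⟩
    set x := X v with hxdef
    set x' := ρ x with hx'def
    have hx' : π x' = μ • v := by rw [πρ, hX]
    set y := X w with hydef
    set a := cm y x with hadef
    set a' := cm y x' with ha'def
    set c := ι' (mk a) with hcdef
    set c' := ι' (mk a') with hc'def
    have hc : c ^ 2 = κ * det2 w v := by rw [hcdef, hadef, bform, hX, hX]
    have hc' : c' ^ 2 = μ * c ^ 2 := by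
      rw [hc, hc'def, ha'def, bform, hX, hx', det2, det2]
      simp only [Prod.smul_fst, Prod.smul_snd, smul_eq_mul]
      ring
    have hxx : α (cm x x') = cm x x' := by
      refine (QuotientGroup.eq_one_iff (N := S.fix) (cm x x')).1 ?_
      show mk (cm x x') = 1
      rw [map_cm]
      refine S'.ι_inj _ (C.fixed_cm hg _ _) (eq_zero_of_pow_eq_zero (n := 2) ?_)
      rw [← map_cm, bform, hX, hx', det2]
      simp only [Prod.smul_fst, Prod.smul_snd, smul_eq_mul]
      linear_combination (κ * μ * v.1 * v.2) * hg.two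
    have ha : π a = 0 := πcm _ _
    have ha' : π a' = 0 := πcm _ _
    have hsplit : cm x (a' * x') = cm x a' * cm x x' :=
      cm_mul_right (S.fixed_central hg hxx _)
    have hfix2 : α (cm x (a' * x')) = cm x (a' * x') := by
      rw [hsplit]; exact fixed_mul (cmfix _ _ ha') hxx
    have hax' : α (cm a x') = cm a x' := by
      rw [cm_swap]; exact fixed_inv (cmfix _ _ ha)
    have e3 : cm a (a' * x') = cm a x' := by
      rw [cm_mul_right (S.fixed_central hg hax' _), cm_eq_one_iff.2 (Pcomm _ _ ha ha'), one_mul]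
    have e1 : y * cm x x' * y⁻¹ = cm (a * x) (a' * x') := by
      rw [hadef, ha'def]; unfold cm; group
    rw [S.fixed_central hg hxx y, mul_inv_cancel_right,
      cm_mul_left (S.fixed_central hg hfix2 a), hsplit, e3] at e1
    have e2 : p x a' = p x' a := by
      have h := congrArg ι e1
      rw [S.ι_mul _ _ (fixed_mul (cmfix _ _ ha') hxx) hax', S.ι_mul _ _ (cmfix _ _ ha') hxx,
        cm_swap x' a, S.ι_inv hg (cmfix _ _ ha)] at h
      exact hg.eq_of_add (by linear_combination -h)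
    rw [hp x a' ha', hp x' a ha, hX, hx', ← hc'def, ← hcdef] at e2
    have e4 := congrArg (fun t => t ^ 2) e2
    have l1 := line v 1 c'
    rw [one_smul, one_mul] at l1
    rw [l1, line] at e4
    -- `c' = ν c` with `ν² = μ`
    obtain ⟨ν, hν⟩ := hg.exists_sqrt μ
    have hcν : c' = ν * c := hg.sq_inj (by rw [hc', mul_pow, hν])
    have hνμ : ν - μ ≠ 0 := by
      intro h
      have h' : ν = μ := sub_eq_zero.1 h
      rw [h'] at hν
      exact hg.ne_one (mul_left_cancel₀ hg.ne_zero (by rw [mul_one, ← pow_two, hν]))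
    have hc0 : c ≠ 0 := fun h => by
      rw [h] at hc
      exact mul_ne_zero hκne hw (by linear_combination -hc)
    have : (ν - μ) * c * p (X v) (Y 1) ^ 2 = 0 := by
      rw [hcν] at e4; linear_combination e4
    exact eq_zero_of_pow_eq_zero ((mul_eq_zero.1 this).resolve_left (mul_ne_zero hνμ hc0))
  have Pcentral : ∀ x y, π y = 0 → x * y = y * x := by
    intro x y hy
    by_cases hx : π x = 0
    · exact Pcomm x y hx hy
    refine cm_eq_one_iff.1 (S.ι_inj _ (cmfix x y hy) (eq_zero_of_pow_eq_zero (n := 2) ?_))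
    have h := line (π x) 1 (ι' (mk y))
    rw [one_smul, pzero _ hx] at h
    have hp' := hp x y hy
    change ι (cm x y) = _ at hp'
    rw [hp', h]; ring
  -- the contradiction
  set x := X (1, 0) with hxdef
  set y := X (0, 1) with hydef
  have hπα : ∀ z, π (α z) = ((π z).1 + (π z).2, (π z).2) := fun z => by
    show π' ((α z : Q) : Q ⧸ S.fix) = _
    rw [← hα', C.map_α]; rfl
  have hz1 : π (α x * x⁻¹) = 0 := by
    rw [πmul, πinv, hπα, hX]
    exact Prod.ext (by simp [hg.add_self]) (by simp)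
  have hz2 : π (α y * (x * y)⁻¹) = 0 := by
    rw [πmul, πinv, hπα, πmul, hX, hX]
    exact Prod.ext (by simp [hg.add_self]) (by simp [hg.add_self])
  have cm_central : ∀ {z u w : Q}, (∀ t, t * z = z * t) → cm (z * u) w = cm u w := by
    intro z u w hz
    rw [cm_mul_left (hz _).symm, cm_eq_one_iff.2 (hz w).symm, mul_one]
  have e : α (cm x y) = cm x y := by
    rw [map_cm', ← inv_mul_cancel_right (α x) x, cm_central (fun t => Pcentral t _ hz1),
      cm_swap (α y) x, ← inv_mul_cancel_right (α y) (x * y),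
      cm_central (fun t => Pcentral t _ hz2), ← cm_swap,
      cm_mul_right (Pcentral x _ (πcm x y)), cm_self, one_mul]
  have h0 : ι' (mk (cm x y)) = 0 := by
    rw [hmkx, hι', e, inv_mul_cancel, S.ι_one]
  have := bform x y
  rw [h0, hX, hX, det2] at this
  exact hκne (by linear_combination -this)

end Singer

/-- **Structure theorem.** -/
theorem Singer.exists_coord_top {F : Type*} [Field F] [Finite F] {μ : F} (hg : Gen μ) :
    ∀ {Q : Type u} [Group Q] [Finite Q] {α ρ : MulAut Q} {ι : Q → F}, Singer μ α ρ ι →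
      ¬ (∀ x y : Q, x * y = y * x) → ∃ π : Q → F × F, Coord μ α ρ π := by
  suffices H : ∀ N : ℕ, ∀ {Q : Type u} [Group Q] [Finite Q] {α ρ : MulAut Q} {ι : Q → F},
      Nat.card Q ≤ N → Singer μ α ρ ι →
      ¬ (∀ x y : Q, x * y = y * x) → ∃ π : Q → F × F, Coord μ α ρ π by
    intro Q _ _ α ρ ι S hnc
    exact H (Nat.card Q) le_rfl S hnc
  intro N
  induction N with
  | zero => intro Q _ _ α ρ ι h; exact absurd h (not_le.2 Nat.card_pos)
  | succ N ih =>
    intro Q _ _ α ρ ι hN S hnc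
    have hne : ∃ x, α x ≠ x := by
      by_contra h
      push Not at h
      exact hnc fun x y => (S.fixed_central hg (h y) x)
    haveI := S.fix_normal hg
    obtain ⟨α', ρ', ι', S', hα', hρ', hι'⟩ := S.exists_quot hg hne
    set mk := QuotientGroup.mk' S.fix with hmk
    have hlt : Nat.card (Q ⧸ S.fix) ≤ N := by
      have h1 : 1 < Nat.card S.fix := by
        rw [S.fix.one_lt_card_iff_ne_bot]
        obtain ⟨c, hc, hc1⟩ := S.ι_surj 1
        exact fun h => zero_ne_one (α := F) (by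
          have : c = 1 := Subgroup.mem_bot.1 (h ▸ (show c ∈ S.fix from hc))
          rw [← hc1, this, S.ι_one])
      have h2 := Subgroup.card_eq_card_quotient_mul_card_subgroup S.fix
      have h3 : 0 < Nat.card (Q ⧸ S.fix) := Nat.card_pos
      nlinarith
    by_cases hqc : ∀ a b : Q ⧸ S.fix, a * b = b * a
    · have cmfix : ∀ x y, α (cm x y) = cm x y := fun x y => by
        refine (QuotientGroup.eq_one_iff (N := S.fix) (cm x y)).1 ?_
        show mk (cm x y) = 1
        rw [map_cm, cm_eq_one_iff]; exact hqc _ _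
      by_cases hsq : ∀ a : Q ⧸ S.fix, a * a = 1
      · by_cases hne' : ∃ a, α' a ≠ a
        · obtain ⟨π', h1, h2, h3, h4, h5⟩ := S'.exists_coord hg hsq hne'
          refine ⟨fun x => π' (mk x), ⟨fun x y => by rw [map_mul, h1], fun x => ?_, ?_, fun x => ?_,
            fun x => ?_⟩⟩
          · rw [h2]; exact QuotientGroup.eq_one_iff x
          · exact h3.comp QuotientGroup.mk_surjective
          · show π' ((ρ x : Q) : Q ⧸ S.fix) = _
            rw [← hρ', h4]; rfl
          · show π' ((α x : Q) : Q ⧸ S.fix) = _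
            rw [← hα', h5]; rfl
        · push Not at hne'
          have hall : ∀ z : Q, α (z⁻¹ * α z) = z⁻¹ * α z := fun z => by
            have := hne' (z : Q ⧸ S.fix)
            rw [hα', eq_comm, QuotientGroup.eq] at this
            exact this
          exact absurd (fun x y => S.comm_second hg x y (hall x) (hall y)) hnc
      · push Not at hsq
        obtain ⟨φ, h1, h2, h3, h4⟩ := S'.exists_param_of_sq hg hqc hsq
        refine absurd (fun x y => ?_) hnc
        refine S.comm_of_param hg ⊤ (fun z => φ (mk z)) (fun _ _ => Subgroup.mem_top _)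
          (fun a _ b _ => by rw [map_mul, h1]) ?_ (fun a _ b _ => cmfix a b)
          (fun r => ?_) (fun a _ => ?_) x (Subgroup.mem_top _) y (Subgroup.mem_top _)
        · intro a _ h0 b _
          obtain ⟨q, hq⟩ := h2 _ h0
          obtain ⟨z, rfl⟩ := QuotientGroup.mk_surjective q
          have hc : α ((z * z)⁻¹ * a) = (z * z)⁻¹ * a := QuotientGroup.eq.1 (hq.symm :)
          refine cm_eq_one_iff.1 ?_
          rw [← mul_inv_cancel_left (z * z) a,
            cm_mul_left (S.fixed_central hg (cmfix _ _) _),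
            cm_eq_one_iff.2 (S.fixed_central hg hc b).symm, one_mul,
            cm_mul_left (S.fixed_central hg (cmfix _ _) _)]
          exact S.fixed_sq hg (cmfix _ _)
        · obtain ⟨q, hq⟩ := h3 r
          obtain ⟨z, rfl⟩ := QuotientGroup.mk_surjective q
          exact ⟨z, Subgroup.mem_top _, hq⟩
        · show φ ((ρ a : Q) : Q ⧸ S.fix) = _
          rw [← hρ', h4]; rfl
    · obtain ⟨π', C⟩ := ih hlt S' hqc
      exact absurd (S.comm_of_quot_coord hg S' hα' hρ' hι' C) hqc

end CfsgLib.SingerTwo
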